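import Mathlib
import Cfsg.Prelude.Def_OddOrderLocal
import Cfsg.Prelude.Def_Amalgam

/-!
# B-G Section 11 ("exceptional maximal subgroups"): Hypothesis 11.1

`Exc M p A A0` is Hypothesis 11.1 of Bender-Glauberman for the quadruple `(M, p, A, A0)`:
`M` is a maximal subgroup of `G`, `p ∉ σ(M)`, `A ≤ M` is elementary abelian of order `p ^ 2`,
`A0 ≤ A` has order `p` and `N_G(A0) ≤ M`.

The standing hypothesis `Cfsg.IsMinSimpleOddOrder G` is NOT part of the structure: lemmas carry it
themselves (as the frozen statements do).  Everything in Section 11 is to be proved from `Exc`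
alone (no use of S1416 / S1417), which removes the S1416 <-> S1417 circle.
-/

set_option autoImplicit false

namespace Cfsg.Agent.Helper24.BG11

universe u

/-- Hypothesis 11.1 of B-G for `(M, p, A, A0)`. -/
structure Exc {G : Type u} [Group G] (M : Subgroup G) (p : ℕ) (A A0 : Subgroup G) : Prop where
  /-- `M` is a maximal subgroup -/
  coatom : IsCoatom M
  /-- `p` is a prime -/
  prime : p.Prime
  /-- `p ∉ σ(M)` -/
  not_sigma : p ∉ Cfsg.sigma M
  /-- `A ≤ M` -/
  le : A ≤ M
  /-- `A` is elementary abelian -/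
  elem : Cfsg.IsElementaryAbelian p A
  /-- `|A| = p ^ 2` -/
  card : Nat.card A = p ^ 2
  /-- `A0 ≤ A` -/
  le0 : A0 ≤ A
  /-- `|A0| = p` -/
  card0 : Nat.card A0 = p
  /-- `N_G(A0) ≤ M` -/
  norm0 : Subgroup.normalizer (A0 : Set G) ≤ M

namespace Exc

variable {G : Type u} [Group G] {M : Subgroup G} {p : ℕ} {A A0 : Subgroup G}

theorem fact (h : Exc M p A A0) : Fact p.Prime := ⟨h.prime⟩

theorem hA (h : Exc M p A A0) :
    A ≤ M ∧ Cfsg.IsElementaryAbelian p A ∧ Nat.card A = p ^ 2 := ⟨h.le, h.elem, h.card⟩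

theorem le0M (h : Exc M p A A0) : A0 ≤ M := h.le0.trans h.le

/-- `C_G(A0) ≤ M` -/
theorem cent0_le (h : Exc M p A A0) : Subgroup.centralizer (A0 : Set G) ≤ M :=
  (Subgroup.centralizer_le_normalizer _).trans h.norm0

/-- `C_G(A) ≤ M` -/
theorem cent_le (h : Exc M p A A0) : Subgroup.centralizer (A : Set G) ≤ M :=
  (Subgroup.centralizer_le (by exact_mod_cast h.le0)).trans h.cent0_le

end Exc

end Cfsg.Agent.Helper24.BG11
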