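import Mathlib
import Cfsg.Agent.Lib.Helper24.BG11.Def

/-!
# B-G Section 11: the facts 11.1-11.6 as a hypothesis bundle

`Facts G` packages, for ALL exceptional quadruples `(M, p, A, A0)` of `G` (see `Exc`), the
conclusions of B-G 11.3 (`M_σ` nilpotent), 11.5/11.6 (Sylow `p`-subgroups of `M` abelian with
`Ω₁ = A`, `N_G(A) ⊄ M`, `C_{M_σ}(A) = 1`, two distinct lines of `A` acting fixed-point-freely on
`M_σ`), and `M_σ ≠ 1` for every maximal subgroup.  B-G Theorem 11.7 is proved in this directory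
from `Facts G`; whoever proves 11.1-11.6 under `Exc` feeds them in.
-/

set_option autoImplicit false

namespace Cfsg.Agent.Helper24.BG11

universe u

/-- The conclusions of B-G 11.3, 11.5, 11.6 for all exceptional quadruples of `G`. -/
structure Facts (G : Type u) [Group G] : Prop where
  /-- `M_σ ≠ 1` for every maximal subgroup -/
  ne_bot : ∀ M : Subgroup G, IsCoatom M → Cfsg.sigmaCore M ≠ ⊥
  /-- 11.3: `M_σ` is nilpotent -/
  nil : ∀ {M A A0 : Subgroup G} {p : ℕ}, Exc M p A A0 → Group.IsNilpotent (Cfsg.sigmaCore M)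
  /-- 11.5/11.6(a): Sylow `p`-subgroups of `M` are abelian, with `Ω₁ = A` when they contain `A` -/
  syl : ∀ {M A A0 : Subgroup G} {p : ℕ}, Exc M p A A0 → ∀ P : Sylow p M,
    IsMulCommutative (P : Subgroup M) ∧
      (A ≤ (P : Subgroup M).map M.subtype →
        ∀ x ∈ (P : Subgroup M).map M.subtype, x ^ p = 1 → x ∈ A)
  /-- `N_G(A) ⊄ M` -/
  norm : ∀ {M A A0 : Subgroup G} {p : ℕ}, Exc M p A A0 →
    ¬ Subgroup.normalizer (A : Set G) ≤ M
  /-- 11.6(b): `C_{M_σ}(A) = 1` -/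
  cent : ∀ {M A A0 : Subgroup G} {p : ℕ}, Exc M p A A0 →
    Cfsg.sigmaCore M ⊓ Subgroup.centralizer (A : Set G) = ⊥
  /-- two distinct lines of `A` act fixed-point-freely on `M_σ` -/
  fpf2 : ∀ {M A A0 : Subgroup G} {p : ℕ}, Exc M p A A0 →
    ∃ A1 A2 : Subgroup G, A1 ≤ A ∧ A2 ≤ A ∧ Nat.card A1 = p ∧ Nat.card A2 = p ∧ A1 ≠ A2 ∧
      Cfsg.sigmaCore M ⊓ Subgroup.centralizer (A1 : Set G) = ⊥ ∧
      Cfsg.sigmaCore M ⊓ Subgroup.centralizer (A2 : Set G) = ⊥

end Cfsg.Agent.Helper24.BG11
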