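import Mathlib
import Cfsg.Agent.Lib.Helper24.BG11.Facts
import Cfsg.Agent.Lib.Helper33.BG125
import Cfsg.Agent.Lib.Helper45.CNSolv
import Cfsg.Agent.S1403
import Cfsg.Agent.S1405
import Cfsg.Agent.S1409

/-!
# B-G Section 11: basic tools for Theorem 11.7
-/

set_option autoImplicit false
set_option linter.unusedSectionVars false
set_option linter.style.haveILetI false
open Pointwise

namespace Cfsg.Agent.Helper24.BG11

open Subgroup Cfsg
open Cfsg.Agent.Helper33
open Cfsg.Agent.Helper34.BG (UniqHyp isElementaryAbelian_isPGroup isElementaryAbelian_mono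
  isElementaryAbelian_sup isElementaryAbelian_zpowers commute_of_isElementaryAbelian
  ne_top_of_le_coatom normalizer_ne_top not_pRankLE_of_elemAb solvable_of_ne_top)

universe u

variable {G : Type u} [Group G]

/-- the Uniqueness Theorem -/
theorem uniqHyp [Finite G] (hG : Cfsg.IsMinSimpleOddOrder G) : UniqHyp G :=
  fun K hK h1 h2 => Cfsg.Agent.S1403.result hG K hK h1 h2

/-- a nontrivial subgroup of the maximal subgroup `M` normalized by `M` has normalizer `M` -/
theorem normalizer_eq_of_normal (hG : Cfsg.IsMinSimpleOddOrder G) {M Y : Subgroup G}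
    (hM : IsCoatom M) (hYM : Y ≤ M) (hn : M ≤ normalizer (Y : Set G)) (hY1 : Y ≠ ⊥) :
    normalizer (Y : Set G) = M := by
  have hne : normalizer (Y : Set G) ≠ ⊤ := normalizer_ne_top hG hY1 (ne_top_of_le_coatom hM hYM)
  by_contra h
  exact hne (hM.2 _ (lt_of_le_of_ne hn (Ne.symm h)))

section excbasic

variable [Finite G] {M A A0 : Subgroup G} {p : ℕ}

theorem Exc.tau2 (hG : Cfsg.IsMinSimpleOddOrder G) (hE : Exc M p A A0) : p ∈ Cfsg.tau2 M := by
  haveI := hE.fact
  have h := (Cfsg.Agent.S1409.result hG M hE.coatom p hE.not_sigma A0 hE.card0 hE.norm0).1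
  exact ⟨hE.prime, hE.not_sigma, h.1, h.2⟩

theorem Exc.trans (hG : Cfsg.IsMinSimpleOddOrder G) (hE : Exc M p A A0) :
    Cfsg.TransitivityHypothesis A := by
  haveI := hE.fact
  exact BG125.transitivity_A hG M hE.coatom p (hE.tau2 hG) A hE.hA

theorem Exc.maxEA (hG : Cfsg.IsMinSimpleOddOrder G) (hE : Exc M p A A0) :
    ∀ B : Subgroup G, Cfsg.IsElementaryAbelian p B → A ≤ B → B = A := by
  haveI := hE.fact
  have h2 := hE.tau2 hG
  exact (Cfsg.Agent.S1408.result hG M hE.coatom p hE.not_sigma h2.2.2.1 h2.2.2.2).2 A hE.le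
    hE.elem hE.card

/-- elements of order dividing `p` centralizing `A` lie in `A` -/
theorem Exc.mem_of_cent (hG : Cfsg.IsMinSimpleOddOrder G) (hE : Exc M p A A0) {x : G}
    (hx : x ∈ centralizer (A : Set G)) (hxp : x ^ p = 1) : x ∈ A := by
  haveI := hE.fact
  exact (BG125.mem_of_centralizer_pow hG M hE.coatom p (hE.tau2 hG) A hE.hA x hx).mp hxp

theorem Exc.isPGroup (hE : Exc M p A A0) : IsPGroup p A :=
  isElementaryAbelian_isPGroup hE.elem

theorem Exc.ne_bot (hE : Exc M p A A0) : A ≠ ⊥ := by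
  intro h
  have h1 := hE.card
  rw [h, Subgroup.card_bot] at h1
  have := hE.prime.one_lt
  have h2 : 1 < p ^ 2 := Nat.one_lt_pow (by norm_num) this
  omega

/-- `p` divides the order of `M` -/
theorem Exc.dvd_card (hE : Exc M p A A0) : p ∣ Nat.card M := by
  have h1 : p ∣ Nat.card A := by rw [hE.card]; exact dvd_pow_self p (by norm_num)
  exact h1.trans (Subgroup.card_dvd_of_le hE.le)

end excbasic

section sigma

variable [Finite G]

/-- S1350, first clause -/
theorem hallOf (hG : Cfsg.IsMinSimpleOddOrder G) {M : Subgroup G} (hM : IsCoatom M) :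
    Cfsg.IsPiHallOf (Cfsg.sigma M) (Cfsg.sigmaCore M) M :=
  (Cfsg.Agent.S1350.result hG M hM).1

/-- S1350, second clause -/
theorem hallTop (hG : Cfsg.IsMinSimpleOddOrder G) {M : Subgroup G} (hM : IsCoatom M) :
    Cfsg.IsPiHall (Cfsg.sigma M) (Cfsg.sigmaCore M) :=
  (Cfsg.Agent.S1350.result hG M hM).2.1

/-- a prime outside `σ(M)` does not divide `|M_σ|` -/
theorem not_dvd_card_sigmaCore {M : Subgroup G} {r : ℕ} (hr : r.Prime) (hrσ : r ∉ Cfsg.sigma M) :
    ¬ r ∣ Nat.card (Cfsg.sigmaCore M) :=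
  fun h => hrσ (Cfsg.Agent.Helper55.BGB.isPi_sigmaCore M r hr h)

/-- an `r`-subgroup, `r ∉ σ(M)`, meets `M_σ` trivially -/
theorem sigmaCore_inf_eq_bot {M R : Subgroup G} {r : ℕ} [hr : Fact r.Prime]
    (hrσ : r ∉ Cfsg.sigma M) (hR : IsPGroup r R) : Cfsg.sigmaCore M ⊓ R = ⊥ := by
  have h1 : IsPGroup r (Cfsg.sigmaCore M ⊓ R : Subgroup G) := hR.to_le inf_le_right
  obtain ⟨n, hn⟩ := IsPGroup.iff_card.mp h1
  have h2 : Nat.card (Cfsg.sigmaCore M ⊓ R : Subgroup G) ∣ Nat.card (Cfsg.sigmaCore M) :=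
    Subgroup.card_dvd_of_le inf_le_left
  rcases Nat.eq_zero_or_pos n with h0 | h0
  · rw [h0, pow_zero] at hn
    exact Subgroup.card_eq_one.mp hn
  · exfalso
    apply not_dvd_card_sigmaCore hr.out hrσ
    refine dvd_trans ?_ h2
    rw [hn]
    exact dvd_pow_self r (by omega)

/-- the `r`-rank of `M` is at most 2 for `r ∉ σ(M)` -/
theorem prank2 (hG : Cfsg.IsMinSimpleOddOrder G) {M : Subgroup G} (hM : IsCoatom M) {r : ℕ}
    (hr : r.Prime) (hrσ : r ∉ Cfsg.sigma M) : Cfsg.PRankLE r 2 M := by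
  have h5 := Cfsg.Agent.S1405.result hG M hM
  exact Cfsg.Agent.Helper55.BGB.prankLE_two_of_not_mem_sigma hr h5.1 h5.2.2.1 hrσ

/-- an elementary abelian `r`-subgroup of `M`, `r ∉ σ(M)`, has order at most `r ^ 2` -/
theorem card_le_sq (hG : Cfsg.IsMinSimpleOddOrder G) {M : Subgroup G} (hM : IsCoatom M) {r : ℕ}
    (hr : r.Prime) (hrσ : r ∉ Cfsg.sigma M) {W : Subgroup G} (hWM : W ≤ M)
    (hW : Cfsg.IsElementaryAbelian r W) : Nat.card W ≤ r ^ 2 := by
  by_contra h
  exact not_pRankLE_of_elemAb hWM hW (not_le.mp h) (prank2 hG hM hr hrσ)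

end sigma

/-! ### `Ω₁(Z(X))` -/

/-- `Ω₁(Z(X))` for the exponent `r`: the central elements of `X` of order dividing `r` -/
def omZ (r : ℕ) (X : Subgroup G) : Subgroup G where
  carrier := {z | z ∈ X ∧ (∀ y ∈ X, y * z = z * y) ∧ z ^ r = 1}
  one_mem' := ⟨X.one_mem, fun y _ => by simp, one_pow r⟩
  mul_mem' := by
    rintro a b ⟨ha, hac, har⟩ ⟨hb, hbc, hbr⟩
    refine ⟨X.mul_mem ha hb, fun y hy => ?_, ?_⟩
    · rw [← mul_assoc, hac y hy, mul_assoc, hbc y hy, mul_assoc]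
    · have hab : Commute a b := (hbc a ha)
      rw [hab.mul_pow, har, hbr, one_mul]
  inv_mem' := by
    rintro a ⟨ha, hac, har⟩
    refine ⟨X.inv_mem ha, fun y hy => ?_, by rw [inv_pow, har, inv_one]⟩
    have h := hac y hy
    calc y * a⁻¹ = a⁻¹ * (a * y) * a⁻¹ := by group
      _ = a⁻¹ * (y * a) * a⁻¹ := by rw [h]
      _ = a⁻¹ * y := by group

theorem mem_omZ {r : ℕ} {X : Subgroup G} {z : G} :
    z ∈ omZ r X ↔ z ∈ X ∧ (∀ y ∈ X, y * z = z * y) ∧ z ^ r = 1 := Iff.rfl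

theorem omZ_le (r : ℕ) (X : Subgroup G) : omZ r X ≤ X := fun _ h => h.1

theorem omZ_le_centralizer (r : ℕ) (X : Subgroup G) : omZ r X ≤ centralizer (X : Set G) := by
  intro z hz
  rw [mem_centralizer_iff]
  exact fun y hy => hz.2.1 y hy

theorem omZ_elemAb (r : ℕ) (X : Subgroup G) : Cfsg.IsElementaryAbelian r (omZ r X) := by
  refine ⟨⟨⟨fun a b => ?_⟩⟩, fun a ha => ha.2.2⟩
  apply Subtype.ext
  exact b.2.2.1 a.1 a.2.1

theorem normalizer_le_normalizer_omZ (r : ℕ) (X : Subgroup G) :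
    normalizer (X : Set G) ≤ normalizer (omZ r X : Set G) := by
  intro g hg
  have key : ∀ g : G, g ∈ normalizer (X : Set G) → ∀ z ∈ omZ r X, g * z * g⁻¹ ∈ omZ r X := by
    intro g hg z hz
    refine ⟨(mem_normalizer_iff.mp hg z).mp hz.1, fun y hy => ?_, ?_⟩
    · have hy' : g⁻¹ * y * g ∈ X := by
        have := (mem_normalizer_iff.mp (inv_mem hg) y).mp hy
        simpa using this
      have h := hz.2.1 _ hy'
      calc y * (g * z * g⁻¹) = g * ((g⁻¹ * y * g) * z) * g⁻¹ := by group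
        _ = g * (z * (g⁻¹ * y * g)) * g⁻¹ := by rw [h]
        _ = g * z * g⁻¹ * y := by group
    · rw [conj_pow, hz.2.2, mul_one, mul_inv_cancel]
  rw [mem_normalizer_iff]
  intro z
  constructor
  · exact key g hg z
  · intro h
    have := key g⁻¹ (inv_mem hg) _ h
    simpa [mul_assoc] using this

theorem omZ_ne_bot [Finite G] {r : ℕ} [hr : Fact r.Prime] {X : Subgroup G} (hX : IsPGroup r X)
    (hX1 : X ≠ ⊥) : omZ r X ≠ ⊥ := by
  haveI : Nontrivial ↥X := (Subgroup.nontrivial_iff_ne_bot X).mpr hX1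
  obtain ⟨z, hzX, hzc, hzo⟩ := Cfsg.Agent.Helper34.BG.exists_central_order_p hX ‹_›
  intro h
  have hz : z ∈ omZ r X := ⟨hzX, hzc, by rw [← hzo]; exact pow_orderOf_eq_one z⟩
  rw [h, mem_bot] at hz
  rw [hz, orderOf_one] at hzo
  exact hr.out.one_lt.ne hzo

end Cfsg.Agent.Helper24.BG11
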