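import Mathlib
import Cfsg.Agent.Lib.Helper24.BG11.Basic
import Cfsg.Agent.S1394
import Cfsg.Agent.S1443

/-!
# B-G 11.7, step 1: a normal line of `M` inside `O_r(M)` on which `A` acts nontrivially
-/

set_option autoImplicit false
set_option linter.unusedSectionVars false
set_option linter.style.haveILetI false
open Pointwise

namespace Cfsg.Agent.Helper24.BG11

open Subgroup Cfsg
open Cfsg.Agent.Helper33
open Cfsg.Agent.Helper34.BG (UniqHyp isElementaryAbelian_isPGroup isElementaryAbelian_mono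
  isElementaryAbelian_sup isElementaryAbelian_zpowers commute_of_isElementaryAbelian
  ne_top_of_le_coatom normalizer_ne_top not_pRankLE_of_elemAb solvable_of_ne_top
  not_rankLE_of_elemAb not_normalizer_le_of_not_mem_sigma prime_ne_two)
open Cfsg.Agent.Helper55.BGB (sigmaCore_le isPi_sigmaCore le_normalizer_sigmaCore
  le_sigmaCore_of_isPGroup le_normalizer_map_subtype)

universe u

variable {G : Type u} [Group G] [Finite G]

/-- the normalizer of a nilpotent subgroup normalizes its Sylow parts -/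
theorem normalizer_le_normalizer_sylowPart' {K : Subgroup G} (hK : Group.IsNilpotent K) (q : ℕ)
    [Fact q.Prime] :
    normalizer (K : Set G) ≤ normalizer (Cfsg.Agent.Helper45.CNS.sylowPart K q : Set G) := by
  have key : ∀ g : G, g ∈ normalizer (K : Set G) →
      ∀ x ∈ Cfsg.Agent.Helper45.CNS.sylowPart K q,
        g * x * g⁻¹ ∈ Cfsg.Agent.Helper45.CNS.sylowPart K q := by
    intro g hg x hx
    obtain ⟨j, hj⟩ := (IsPGroup.iff_orderOf.mp (Cfsg.Agent.Helper45.CNS.sylowPart_isPGroup K q))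
      ⟨x, hx⟩
    have hj' : orderOf x = q ^ j := by
      rw [← hj]; exact (Subgroup.orderOf_mk x hx).symm
    have hxK : x ∈ K := Cfsg.Agent.Helper45.CNS.sylowPart_le K q hx
    have h1 : g * x * g⁻¹ ∈ K := (mem_normalizer_iff.mp hg x).mp hxK
    have hord : orderOf (g * x * g⁻¹) = q ^ j := by
      rw [← hj', ← MulAut.conj_apply]
      exact MulEquiv.orderOf_eq _ _
    exact Cfsg.Agent.Helper45.CNS.mem_sylowPart hK h1 hord
  intro g hg
  rw [mem_normalizer_iff]
  intro x
  constructor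
  · exact key g hg x
  · intro h
    have := key g⁻¹ (inv_mem hg) _ h
    simpa [mul_assoc] using this

/-- `O_r(M)` centralizes `M_σ` for `r ∉ σ(M)` -/
theorem pCoreOf_le_centralizer_sigmaCore {M : Subgroup G} {r : ℕ} [hr : Fact r.Prime]
    (hrσ : r ∉ Cfsg.sigma M) :
    Cfsg.pCoreOf r M ≤ centralizer (Cfsg.sigmaCore M : Set G) := by
  have hY0M : Cfsg.pCoreOf r M ≤ M := Subgroup.map_subtype_le _
  have hY0n : M ≤ normalizer ((Cfsg.pCoreOf r M : Subgroup G) : Set G) :=
    le_normalizer_map_subtype M (Cfsg.pCore r ↥M)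
  have hY0r : IsPGroup r (Cfsg.pCoreOf r M) := (Cfsg.Agent.Helper55.isPGroup_pCore).map _
  have hbot := sigmaCore_inf_eq_bot (M := M) hrσ hY0r
  intro y hy
  rw [mem_centralizer_iff]
  intro k hk
  have hkM : k ∈ M := sigmaCore_le M hk
  have hyM : y ∈ M := hY0M hy
  -- the commutator lies in both
  have h1 : k * y * k⁻¹ * y⁻¹ ∈ Cfsg.pCoreOf r M :=
    (Cfsg.pCoreOf r M).mul_mem ((mem_normalizer_iff.mp (hY0n hkM) y).mp hy) (inv_mem hy)
  have h2 : k * y * k⁻¹ * y⁻¹ ∈ Cfsg.sigmaCore M := by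
    have : y * k⁻¹ * y⁻¹ ∈ Cfsg.sigmaCore M :=
      (mem_normalizer_iff.mp (le_normalizer_sigmaCore M hyM) k⁻¹).mp (inv_mem hk)
    have h3 := (Cfsg.sigmaCore M).mul_mem hk this
    simpa [mul_assoc] using h3
  have h3 : k * y * k⁻¹ * y⁻¹ ∈ Cfsg.sigmaCore M ⊓ Cfsg.pCoreOf r M := ⟨h2, h1⟩
  rw [hbot, mem_bot] at h3
  calc k * y = (k * y * k⁻¹ * y⁻¹) * y * k := by group
    _ = y * k := by rw [h3, one_mul]

/-- B-G 11.7, step 1a: `M` has no normal elementary abelian subgroup of order `r ^ 2`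
centralizing `M_σ`, for `r ∉ σ(M)`. -/
theorem no_normal_sq (hG : Cfsg.IsMinSimpleOddOrder G) (F : Facts G) {M A A0 : Subgroup G}
    {p : ℕ} (hE : Exc M p A A0) {r : ℕ} [hr : Fact r.Prime] (hrσ : r ∉ Cfsg.sigma M)
    (W : Subgroup G) (hWM : W ≤ M) (hWe : Cfsg.IsElementaryAbelian r W)
    (hWc : Nat.card W = r ^ 2) (hWn : M ≤ normalizer (W : Set G))
    (hWK : W ≤ centralizer (Cfsg.sigmaCore M : Set G)) : False := by
  have hM := hE.coatom
  have hrp := hr.out
  have hWr : IsPGroup r W := isElementaryAbelian_isPGroup hWe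
  have hτ : r ∈ Cfsg.tau2 M := by
    refine ⟨hrp, hrσ, prank2 hG hM hrp hrσ, not_pRankLE_of_elemAb hWM hWe ?_⟩
    rw [hWc]; exact Nat.pow_lt_pow_right hrp.one_lt (by norm_num)
  have hTH : Cfsg.TransitivityHypothesis W :=
    BG125.transitivity_A hG M hM r hτ W ⟨hWM, hWe, hWc⟩
  have hW1 : W ≠ ⊥ := by
    intro h
    rw [h, Subgroup.card_bot] at hWc
    have : 1 < r ^ 2 := Nat.one_lt_pow (by norm_num) hrp.one_lt
    omega
  have hNW : normalizer (W : Set G) = M := normalizer_eq_of_normal hG hM hWM hWn hW1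
  have hCW : centralizer (W : Set G) ≤ M := by
    rw [← hNW]; exact centralizer_le_normalizer _
  set K := Cfsg.sigmaCore M with hK
  have hK1 : K ≠ ⊥ := F.ne_bot M hM
  have hKnil : Group.IsNilpotent K := F.nil hE
  have hKM : K ≤ M := sigmaCore_le M
  -- a prime q dividing |K|
  have hKc : Nat.card K ≠ 1 := fun h => hK1 (Subgroup.card_eq_one.mp h)
  obtain ⟨q, hq, hqK⟩ := Nat.exists_prime_and_dvd hKc
  haveI : Fact q.Prime := ⟨hq⟩
  have hqσ : q ∈ Cfsg.sigma M := isPi_sigmaCore M q hq hqK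
  have hqr : q ≠ r := fun h => hrσ (h ▸ hqσ)
  set Q := Cfsg.Agent.Helper45.CNS.sylowPart K q with hQ
  have hQK : Q ≤ K := Cfsg.Agent.Helper45.CNS.sylowPart_le K q
  have hQn : M ≤ normalizer (Q : Set G) :=
    (le_normalizer_sigmaCore M).trans (normalizer_le_normalizer_sylowPart' hKnil q)
  have hQcard : Nat.card Q = q ^ (Nat.card G).factorization q := by
    have h1 : Nat.card Q = q ^ (Nat.card K).factorization q := by
      rw [hQ]
      unfold Cfsg.Agent.Helper45.CNS.sylowPart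
      rw [Subgroup.card_map_of_injective K.subtype_injective]
      exact (default : Sylow q K).card_eq_multiplicity
    rw [h1, BG125.factorization_card_of_not_dvd_index ((hallTop hG hM).2 q hq hqσ)]
  have hQ1 : Q ≠ ⊥ := by
    intro h
    rw [h, Subgroup.card_bot] at hQcard
    have h2 : q ∣ Nat.card G := hqK.trans (Subgroup.card_subgroup_dvd_card K)
    have h3 : 0 < (Nat.card G).factorization q :=
      hq.factorization_pos_of_dvd Nat.card_pos.ne' h2
    have : 1 < q ^ (Nat.card G).factorization q := Nat.one_lt_pow h3.ne' hq.one_lt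
    omega
  have hNQ : normalizer (Q : Set G) = M :=
    normalizer_eq_of_normal hG hM (hQK.trans hKM) hQn hQ1
  -- a Sylow `r`-subgroup of `M` over `W` and `g ∈ N(T) \ M`
  obtain ⟨T, hT, hWT⟩ := exists_isSylIn_ge (p := r) hWr hWM
  have hrM : r ∣ Nat.card M := by
    have h1 : r ∣ Nat.card W := by rw [hWc]; exact dvd_pow_self r (by norm_num)
    exact h1.trans (Subgroup.card_dvd_of_le hWM)
  have hNT : ¬ normalizer (T : Set G) ≤ M := not_normalizer_le_of_not_mem_sigma hT hrM hrσ
  obtain ⟨g, hgT, hgM⟩ := SetLike.not_le_iff_exists.mp hNT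
  -- `g • W ≤ M` normalizes `Q`, so `W` normalizes `g⁻¹ • Q`
  have hgW : MulAut.conj g • W ≤ M := by
    have h1 : MulAut.conj g • W ≤ MulAut.conj g • T := conj_smul_le_conj_smul hWT
    rw [smul_eq_of_mem_normalizer hgT] at h1
    exact h1.trans hT.le
  have hWQ' : W ≤ normalizer ((MulAut.conj g⁻¹ • Q : Subgroup G) : Set G) := by
    rw [normalizer_conj_smul, hNQ, ← conj_smul_le_iff_le_inv]
    exact hgW
  have hcard' : Nat.card (MulAut.conj g⁻¹ • Q : Subgroup G) = q ^ (Nat.card G).factorization q := by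
    rw [card_conj_smul, hQcard]
  have hm1 : Q ∈ Cfsg.maxInvSubgroups ⊤ W {q} :=
    BG125.mem_maxInv_of_card_sylow hQcard (hWM.trans hQn)
  have hm2 : (MulAut.conj g⁻¹ • Q : Subgroup G) ∈ Cfsg.maxInvSubgroups ⊤ W {q} :=
    BG125.mem_maxInv_of_card_sylow hcard' hWQ'
  -- S1394
  have hWab : W ≤ centralizer (W : Set G) := by
    intro x hx
    rw [mem_centralizer_iff]
    intro y hy
    exact commute_of_isElementaryAbelian hWe hy hx
  have hZ : ¬ Cfsg.RankLE 1 ↥(W ⊓ centralizer (W : Set G)) := by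
    refine not_rankLE_of_elemAb hrp (le_inf le_rfl hWab) hWe ?_
    rw [hWc]; exact Nat.pow_lt_pow_right hrp.one_lt (by norm_num)
  have hqW : ¬ q ∣ Nat.card W := by
    rw [hWc]
    intro h
    exact hqr ((Nat.prime_dvd_prime_iff_eq hq hrp).mp (hq.dvd_of_dvd_pow h))
  have hKC : K ≤ centralizer (W : Set G) := by
    intro k hk
    rw [mem_centralizer_iff]
    intro w hw
    exact ((mem_centralizer_iff.mp (hWK hw)) k hk).symm
  have hqC : q ∣ Nat.card (centralizer (W : Set G)) := hqK.trans (Subgroup.card_dvd_of_le hKC)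
  obtain ⟨k, hk, hkQ⟩ := Cfsg.Agent.S1394.result hG W hTH hZ q hq hqW hqC Q hm1 _ hm2
  have hkC : k ∈ centralizer (W : Set G) := by
    have : Cfsg.piCoreOf (Cfsg.primesNotDvd (Nat.card W)) (centralizer (W : Set G)) ≤
        centralizer (W : Set G) := Subgroup.map_subtype_le _
    exact this hk
  have hkM : k ∈ M := hCW hkC
  rw [map_conj_eq_smul, smul_eq_of_mem_normalizer (hQn hkM)] at hkQ
  have : g⁻¹ ∈ normalizer (Q : Set G) := mem_normalizer_iff_smul_eq.mpr hkQ
  rw [hNQ] at this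
  exact hgM (by simpa using inv_mem this)

end Cfsg.Agent.Helper24.BG11
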