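import Mathlib
import Cfsg.Agent.Lib.Helper24.BG11.Line

/-!
# B-G 11.7, step 1: the normal line `Y1 = Ω₁(Z(O_r(M)))`
-/

set_option autoImplicit false
set_option linter.unusedSectionVars false
set_option linter.style.haveILetI false
open Pointwise

namespace Cfsg.Agent.Helper24.BG11

open Subgroup Cfsg
open Cfsg.Agent.Helper33
open Cfsg.Agent.Helper34.BG (UniqHyp isElementaryAbelian_isPGroup isElementaryAbelian_mono
  isElementaryAbelian_sup isElementaryAbelian_zpowers commute_of_isElementaryAbelian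
  ne_top_of_le_coatom normalizer_ne_top not_pRankLE_of_elemAb solvable_of_ne_top
  not_rankLE_of_elemAb not_normalizer_le_of_not_mem_sigma prime_ne_two)
open Cfsg.Agent.Helper55.BGB (sigmaCore_le isPi_sigmaCore le_normalizer_sigmaCore
  le_sigmaCore_of_isPGroup le_normalizer_map_subtype)

universe u

variable {G : Type u} [Group G] [Finite G]

/-- a subgroup strictly containing a subgroup of order `r`, elementary abelian of order at most
`r ^ 2`, has order `r ^ 2` -/
theorem card_eq_sq_of_lt {r : ℕ} (hr : r.Prime) {W B : Subgroup G} (hW : Nat.card W = r)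
    (hWB : W ≤ B) (hne : ¬ B ≤ W) (hB : IsPGroup r B) (hle : Nat.card B ≤ r ^ 2) :
    Nat.card B = r ^ 2 := by
  haveI : Fact r.Prime := ⟨hr⟩
  obtain ⟨k, hk⟩ := IsPGroup.iff_card.mp hB
  have h1 : Nat.card W < Nat.card B := by
    by_contra h
    exact hne (Subgroup.eq_of_le_of_card_ge hWB (not_lt.mp h)).ge
  rw [hW, hk] at h1
  rw [hk] at hle
  have hk2 : k ≤ 2 := (Nat.pow_le_pow_iff_right hr.one_lt).mp hle
  have hk1 : 1 < k := by
    by_contra h
    have : k ≤ 1 := not_lt.mp h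
    have h2 : r ^ k ≤ r ^ 1 := Nat.pow_le_pow_right hr.pos this
    rw [pow_one] at h2
    omega
  have : k = 2 := by omega
  rw [hk, this]

/-- B-G 11.7, step 1: if `A` does not centralize `O_r(M)` (`r ∉ σ(M)`, `r ≠ p`), there is a
normal subgroup `Y1` of `M` of order `r`, centralizing `M_σ`, not centralized by `A`. -/
theorem exists_normal_line (hG : Cfsg.IsMinSimpleOddOrder G) (F : Facts G) {M A A0 : Subgroup G}
    {p : ℕ} (hE : Exc M p A A0) {r : ℕ} [hr : Fact r.Prime] (hrp : r ≠ p)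
    (hrσ : r ∉ Cfsg.sigma M)
    (hnc : ¬ A ≤ centralizer ((Cfsg.pCoreOf r M : Subgroup G) : Set G)) :
    ∃ Y1 : Subgroup G, Y1 ≤ M ∧ Nat.card Y1 = r ∧ M ≤ normalizer (Y1 : Set G) ∧
      Y1 ≤ centralizer (Cfsg.sigmaCore M : Set G) ∧ ¬ A ≤ centralizer (Y1 : Set G) := by
  haveI := hE.fact
  have hM := hE.coatom
  have hrP := hr.out
  set Y0 := Cfsg.pCoreOf r M with hY0
  have hY0M : Y0 ≤ M := Subgroup.map_subtype_le _
  have hY0n : M ≤ normalizer (Y0 : Set G) := le_normalizer_map_subtype M (Cfsg.pCore r ↥M)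
  have hY0r : IsPGroup r Y0 := (Cfsg.Agent.Helper55.isPGroup_pCore).map _
  have hY0K : Y0 ≤ centralizer (Cfsg.sigmaCore M : Set G) := pCoreOf_le_centralizer_sigmaCore hrσ
  have hY01 : Y0 ≠ ⊥ := by
    intro h
    apply hnc
    rw [h]
    intro a _
    rw [mem_centralizer_iff]
    intro y hy
    have : y = 1 := by simpa using hy
    rw [this]; simp
  set W := omZ r Y0 with hW
  have hWY0 : W ≤ Y0 := omZ_le r Y0
  have hWM : W ≤ M := hWY0.trans hY0M
  have hW1 : W ≠ ⊥ := omZ_ne_bot hY0r hY01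
  have hWe : Cfsg.IsElementaryAbelian r W := omZ_elemAb r Y0
  have hWn : M ≤ normalizer (W : Set G) := hY0n.trans (normalizer_le_normalizer_omZ r Y0)
  have hWK : W ≤ centralizer (Cfsg.sigmaCore M : Set G) := hWY0.trans hY0K
  have hWr : IsPGroup r W := isElementaryAbelian_isPGroup hWe
  obtain ⟨j, hj⟩ := IsPGroup.iff_card.mp hWr
  have hjle : Nat.card W ≤ r ^ 2 := card_le_sq hG hM hrP hrσ hWM hWe
  have hj0 : j ≠ 0 := by
    rintro rfl
    rw [pow_zero] at hj
    exact hW1 (Subgroup.card_eq_one.mp hj)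
  have hj2 : j ≤ 2 := by
    rw [hj] at hjle
    exact (Nat.pow_le_pow_iff_right hrP.one_lt).mp hjle
  have hj1 : j = 1 := by
    by_contra hne
    have h2 : j = 2 := by omega
    rw [h2] at hj
    exact no_normal_sq hG F hE hrσ W hWM hWe hj hWn hWK
  rw [hj1, pow_one] at hj
  have hNW : normalizer (W : Set G) = M := normalizer_eq_of_normal hG hM hWM hWn hW1
  refine ⟨W, hWM, hj, hWn, hWK, ?_⟩
  intro hAW
  apply hnc
  have hrY0 : r ∣ Nat.card Y0 := by
    obtain ⟨n, hn⟩ := IsPGroup.iff_card.mp hY0r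
    rw [hn]
    refine dvd_pow_self r ?_
    rintro rfl
    rw [pow_zero] at hn
    exact hY01 (Subgroup.card_eq_one.mp hn)
  have hr2 : r ≠ 2 := prime_ne_two hG Y0 hrY0
  have hcop : (Nat.card A).Coprime r := by
    rw [hE.card]
    exact ((Nat.coprime_primes hE.prime hrP).mpr (Ne.symm hrp)).pow_left 2
  refine Cfsg.Agent.S1443.result r hr2 Y0 W A hY0r hWY0 hWe (hE.le.trans hY0n) hcop ?_
  intro x hx hxo
  have hxY0 : x ∈ Y0 := hx.1
  have hxC : x ∈ centralizer (W : Set G) := hx.2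
  have hxW : x ∈ W := by
    by_contra hxW
    have hxr : x ^ r = 1 := by rw [← hxo]; exact pow_orderOf_eq_one x
    have hcomm : ∀ a ∈ W, ∀ b ∈ zpowers x, a * b = b * a := by
      intro a ha b hb
      obtain ⟨k, rfl⟩ := mem_zpowers_iff.mp hb
      have h1 : Commute a x := (mem_centralizer_iff.mp hxC) a ha
      exact (h1.zpow_right k).eq
    have hBe : Cfsg.IsElementaryAbelian r (W ⊔ zpowers x) :=
      isElementaryAbelian_sup hWe (isElementaryAbelian_zpowers hxr) hcomm
    have hBY0 : W ⊔ zpowers x ≤ Y0 := sup_le hWY0 (zpowers_le.mpr hxY0)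
    have hBM : W ⊔ zpowers x ≤ M := hBY0.trans hY0M
    have hBle : Nat.card (W ⊔ zpowers x : Subgroup G) ≤ r ^ 2 :=
      card_le_sq hG hM hrP hrσ hBM hBe
    have hBcard : Nat.card (W ⊔ zpowers x : Subgroup G) = r ^ 2 := by
      refine card_eq_sq_of_lt hrP hj le_sup_left ?_ (isElementaryAbelian_isPGroup hBe) hBle
      intro h
      exact hxW (h (le_sup_right (a := W) (mem_zpowers x)))
    have hE' : Exc M r (W ⊔ zpowers x) W :=
      ⟨hM, hrP, hrσ, hBM, hBe, hBcard, le_sup_left, hj, hNW.le⟩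
    have hc := F.cent hE'
    have hKB : Cfsg.sigmaCore M ≤ centralizer ((W ⊔ zpowers x : Subgroup G) : Set G) := by
      intro k hk
      rw [mem_centralizer_iff]
      intro b hb
      exact ((mem_centralizer_iff.mp (hY0K (hBY0 hb))) k hk).symm
    apply F.ne_bot M hM
    rw [eq_bot_iff, ← hc]
    exact le_inf le_rfl hKB
  intro a ha
  rw [mem_centralizer_iff]
  intro y hy
  rw [Set.mem_singleton_iff] at hy
  subst hy
  exact (mem_centralizer_iff.mp (hAW ha)) y hxW

end Cfsg.Agent.Helper24.BG11
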