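import Mathlib
import Cfsg.Agent.Lib.Helper24.BG11.Line2
import Cfsg.Agent.Lib.Helper52.CoprimeSylow
import Cfsg.Agent.S1414

/-!
# B-G 11.7, step 2: an `A`-invariant Sylow `r`-subgroup `T` of `M` and `B = Ω₁(T)`
-/

set_option autoImplicit false
set_option linter.unusedSectionVars false
set_option linter.style.haveILetI false
open Pointwise

namespace Cfsg.Agent.Helper24.BG11

open Subgroup Cfsg
open Cfsg.Agent.Helper33
open Cfsg.Agent.Helper34.BG (UniqHyp isElementaryAbelian_isPGroup isElementaryAbelian_mono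
  isElementaryAbelian_sup isElementaryAbelian_zpowers commute_of_isElementaryAbelian
  ne_top_of_le_coatom normalizer_ne_top not_pRankLE_of_elemAb solvable_of_ne_top
  not_rankLE_of_elemAb not_normalizer_le_of_not_mem_sigma prime_ne_two isElementaryAbelian_conj)
open Cfsg.Agent.Helper55.BGB (sigmaCore_le isPi_sigmaCore le_normalizer_sigmaCore
  le_sigmaCore_of_isPGroup le_normalizer_map_subtype)

universe u

/-- (copied from `Lib/Helper9/SupersolvableCrit`) an element of `q`-power order normalizing a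
cyclic group of prime order `p` with `q ∤ p - 1` centralizes it. -/
theorem conj_eq_of_not_dvd_pred' {G : Type*} [Group G] {g c : G} {p q b : ℕ} [hp : Fact p.Prime]
    (hq : q.Prime) (hco : orderOf c = p) (hgo : orderOf g = q ^ b) (hqp : ¬ q ∣ p - 1)
    (hmem : g * c * g⁻¹ ∈ zpowers c) : g * c * g⁻¹ = c := by
  have hfin : IsOfFinOrder c := by
    rw [← orderOf_pos_iff, hco]; exact hp.out.pos
  obtain ⟨k, hk⟩ := (Submonoid.mem_powers_iff _ _).mp (hfin.mem_powers_iff_mem_zpowers.mpr hmem)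
  have hn : ∀ n : ℕ, g ^ n * c * (g ^ n)⁻¹ = c ^ (k ^ n) := by
    intro n
    induction n with
    | zero => simp
    | succ n ih =>
      have : g ^ (n + 1) * c * (g ^ (n + 1))⁻¹ = g * (g ^ n * c * (g ^ n)⁻¹) * g⁻¹ := by
        rw [pow_succ']; group
      rw [this, ih, ← conj_pow, ← hk, ← pow_mul, pow_succ, mul_comm]
  have h1 := hn (q ^ b)
  rw [← hgo, pow_orderOf_eq_one, one_mul, inv_one, mul_one, hgo] at h1
  have h2 : k ^ (q ^ b) ≡ 1 [MOD p] := by
    rw [← hco]
    apply pow_eq_pow_iff_modEq.mp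
    rw [pow_one]; exact h1.symm
  have h3 : ((k : ZMod p)) ^ (q ^ b) = 1 := by
    have := (ZMod.natCast_eq_natCast_iff _ _ p).mpr h2
    simpa using this
  have hqb0 : q ^ b ≠ 0 := pow_ne_zero _ hq.ne_zero
  have hunit : IsUnit (k : ZMod p) := IsUnit.of_pow_eq_one h3 hqb0
  obtain ⟨u, hu⟩ := hunit
  have hu1 : u ^ (q ^ b) = 1 := by
    apply Units.ext
    rw [Units.val_pow_eq_pow_val, hu, h3]; rfl
  have hu2 : u ^ (p - 1) = 1 := ZMod.units_pow_card_sub_one_eq_one p u
  have hcop : Nat.Coprime (q ^ b) (p - 1) :=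
    Nat.Coprime.pow_left b ((Nat.Prime.coprime_iff_not_dvd hq).mpr hqp)
  have h4 : orderOf u ∣ Nat.gcd (q ^ b) (p - 1) :=
    Nat.dvd_gcd (orderOf_dvd_of_pow_eq_one hu1) (orderOf_dvd_of_pow_eq_one hu2)
  rw [hcop] at h4
  have hu3 : u = 1 := orderOf_eq_one_iff.mp (Nat.dvd_one.mp h4)
  have h5 : (k : ZMod p) = ((1 : ℕ) : ZMod p) := by
    rw [← hu, hu3]; simp
  have h6 : k ≡ 1 [MOD p] := (ZMod.natCast_eq_natCast_iff _ _ p).mp h5
  rw [← hk]
  rw [← hco] at h6
  have := pow_eq_pow_iff_modEq.mpr h6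
  rw [pow_one] at this
  exact this

variable {G : Type u} [Group G] [Finite G]

/-- a non-identity element of a subgroup of prime order generates it -/
theorem zpowers_eq_of_card_prime {r : ℕ} (hr : r.Prime) {Y : Subgroup G} (hY : Nat.card Y = r)
    {y : G} (hy : y ∈ Y) (hy1 : y ≠ 1) : zpowers y = Y ∧ orderOf y = r := by
  have h1 : orderOf y ∣ r := by rw [← hY]; exact Subgroup.orderOf_dvd_natCard Y hy
  have h2 : orderOf y = r := by
    rcases (Nat.dvd_prime hr).mp h1 with h | h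
    · exact absurd (orderOf_eq_one_iff.mp h) hy1
    · exact h
  refine ⟨?_, h2⟩
  apply Subgroup.eq_of_le_of_card_ge (zpowers_le.mpr hy)
  rw [Nat.card_zpowers, h2, hY]

/-- if an elementary abelian `p`-group `A` normalizes but does not centralize a group `Y` of
prime order `r`, then `p ∣ r - 1` -/
theorem dvd_pred_of_not_centralizes {p r : ℕ} (hp : p.Prime) [hr : Fact r.Prime]
    {A Y : Subgroup G} (hAe : ∀ a ∈ A, a ^ p = 1) (hY : Nat.card Y = r)
    (hAY : A ≤ normalizer (Y : Set G)) (hnc : ¬ A ≤ centralizer (Y : Set G)) : p ∣ r - 1 := by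
  by_contra hdvd
  apply hnc
  intro a ha
  rw [mem_centralizer_iff]
  intro y hy
  by_cases hy1 : y = 1
  · rw [hy1]; simp
  obtain ⟨hz, ho⟩ := zpowers_eq_of_card_prime hr.out hY hy hy1
  have hmem : a * y * a⁻¹ ∈ zpowers y := by
    rw [hz]; exact (mem_normalizer_iff.mp (hAY ha) y).mp hy
  have hao : ∃ b : ℕ, orderOf a = p ^ b := by
    have h1 : orderOf a ∣ p := orderOf_dvd_of_pow_eq_one (hAe a ha)
    rcases (Nat.dvd_prime hp).mp h1 with h | h
    · exact ⟨0, by rw [h, pow_zero]⟩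
    · exact ⟨1, by rw [h, pow_one]⟩
  obtain ⟨b, hb⟩ := hao
  have := conj_eq_of_not_dvd_pred' hp ho hb hdvd hmem
  calc y * a = (a * y * a⁻¹) * a := by rw [this]
    _ = a * y := by group

/-- an element all of whose conjugates of elements of `H` stay in `H` normalizes `H` -/
theorem mem_normalizer_of_forall_conj_mem {g : G} {H : Subgroup G}
    (h : ∀ x ∈ H, g * x * g⁻¹ ∈ H) : g ∈ normalizer (H : Set G) := by
  rw [mem_normalizer_iff_smul_eq]
  apply Subgroup.eq_of_le_of_card_ge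
  · rw [conj_smul_le_iff]; exact h
  · rw [card_conj_smul]

/-- B-G 11.7, step 2a: an `A`-invariant Sylow `r`-subgroup of `M` for `p < r` -/
theorem exists_inv_sylow (hG : Cfsg.IsMinSimpleOddOrder G) {M A A0 : Subgroup G} {p : ℕ}
    (hE : Exc M p A A0) {r : ℕ} [hr : Fact r.Prime] (hpr : p < r) :
    ∃ T : Subgroup G, IsSylIn r T M ∧ A ≤ normalizer (T : Set G) := by
  haveI := hE.fact
  have hM := hE.coatom
  have hU := uniqHyp hG
  have hpβ : p ∉ Cfsg.beta M :=
    fun h => hE.not_sigma (Cfsg.Agent.Helper34.BG.alpha_subset_sigma hG hU hM h.1)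
  have h14 := ((Cfsg.Agent.S1414.result hG M hM).2.2.2.2 p hE.prime hE.dvd_card hpβ).2.2
  have hr_idx : ¬ r ∣ (Cfsg.pPrimeCore p ↥M).index := by
    intro h
    have := h14 r hr.out h
    omega
  set D := (Cfsg.pPrimeCore p ↥M).map M.subtype with hD
  have hDM : D ≤ M := Subgroup.map_subtype_le _
  have hDn : M ≤ normalizer (D : Set G) := le_normalizer_map_subtype M (Cfsg.pPrimeCore p ↥M)
  have hDcard : Nat.card D = Nat.card (Cfsg.pPrimeCore p ↥M) :=
    Subgroup.card_map_of_injective M.subtype_injective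
  have hcop : (Nat.card A).Coprime (Nat.card D) := by
    rw [hE.card, hDcard]
    exact Nat.Coprime.pow_left 2 (Cfsg.Agent.Helper55.pPrimeCore_coprime p).symm
  obtain ⟨T, hTD, hTc, hAT⟩ := Cfsg.Agent.Helper52.exists_invariant_sylow A D (hE.le.trans hDn)
    hcop (Or.inl (solvable_of_ne_top hG (ne_top_of_le_coatom hM hE.le))) r
  have hTc' : Nat.card T = r ^ (Nat.card D).factorization r := hTc
  refine ⟨T, ⟨hTD.trans hDM, IsPGroup.of_card hTc', ?_⟩, hAT⟩
  rw [← Subgroup.relIndex_mul_relIndex T D M hTD hDM]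
  have h1 : ¬ r ∣ T.relIndex D := by
    have h2 := Cfsg.Agent.Helper52.card_mul_relIndex_eq hTD
    intro h3
    have h5 := Nat.pow_succ_factorization_not_dvd (Nat.card_pos (α := D)).ne' hr.out
    generalize (Nat.card D).factorization r = f at hTc' h5
    apply h5
    have h4 : r ^ f * r ∣ Nat.card T * T.relIndex D := by
      rw [hTc']; exact mul_dvd_mul_left _ h3
    rw [h2] at h4
    rw [pow_succ]; exact h4
  have h2 : ¬ r ∣ D.relIndex M := by
    have : D.relIndex M = (Cfsg.pPrimeCore p ↥M).index := by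
      rw [hD, Subgroup.relIndex, Subgroup.subgroupOf,
        Subgroup.comap_map_eq_self_of_injective M.subtype_injective]
    rw [this]; exact hr_idx
  exact fun h => (hr.out.dvd_mul.mp h).elim h1 h2

/-- B-G 11.7, step 2b: `B = Ω₁(T)` -/
theorem setupB (hG : Cfsg.IsMinSimpleOddOrder G) (F : Facts G) {M A A0 : Subgroup G} {p : ℕ}
    (hE : Exc M p A A0) {r : ℕ} [hr : Fact r.Prime] (hrσ : r ∉ Cfsg.sigma M)
    {Y1 : Subgroup G} (hY1M : Y1 ≤ M) (hY1c : Nat.card Y1 = r)
    (hY1n : M ≤ normalizer (Y1 : Set G)) {T : Subgroup G} (hT : IsSylIn r T M)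
    (hAT : A ≤ normalizer (T : Set G)) :
    ∃ B : Subgroup G, B ≤ T ∧ Cfsg.IsElementaryAbelian r B ∧ Nat.card B = r ^ 2 ∧ Y1 ≤ B ∧
      Exc M r B Y1 ∧ (∀ x ∈ T, ∀ y ∈ T, x * y = y * x) ∧ (∀ x ∈ T, x ^ r = 1 → x ∈ B) ∧
      A ≤ normalizer (B : Set G) := by
  have hM := hE.coatom
  have hrP := hr.out
  have hY11 : Y1 ≠ ⊥ := by
    intro h
    rw [h, Subgroup.card_bot] at hY1c
    exact hrP.one_lt.ne hY1c
  have hNY : normalizer (Y1 : Set G) = M := normalizer_eq_of_normal hG hM hY1M hY1n hY11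
  obtain ⟨B0, hB0e, hB0c, hYB0⟩ :=
    (Cfsg.Agent.S1409.result hG M hM r hrσ Y1 hY1c hNY.le).2.2
  have hB0M : B0 ≤ M := by
    intro b hb
    rw [← hNY]
    apply centralizer_le_normalizer
    rw [mem_centralizer_iff]
    intro y hy
    exact commute_of_isElementaryAbelian hB0e (hYB0 hy) hb
  obtain ⟨x, hxM, hxB⟩ := hT.exists_conj_le (isElementaryAbelian_isPGroup hB0e) hB0M
  set B := MulAut.conj x • B0 with hB
  have hBe : Cfsg.IsElementaryAbelian r B := isElementaryAbelian_conj hB0e x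
  have hBc : Nat.card B = r ^ 2 := by rw [hB, card_conj_smul, hB0c]
  have hYB : Y1 ≤ B := by
    have h1 : MulAut.conj x • Y1 ≤ MulAut.conj x • B0 := conj_smul_le_conj_smul hYB0
    rwa [smul_eq_of_mem_normalizer (hY1n hxM)] at h1
  have hE' : Exc M r B Y1 :=
    ⟨hM, hrP, hrσ, hxB.trans hT.le, hBe, hBc, hYB, hY1c, hNY.le⟩
  have hs := F.syl hE' hT.toSylow
  rw [hT.coe_toSylow, Subgroup.map_subgroupOf_eq_of_le hT.le] at hs
  obtain ⟨hcomm, hom⟩ := hs
  have hTcomm : ∀ x ∈ T, ∀ y ∈ T, x * y = y * x := by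
    intro a ha b hb
    have haM : a ∈ M := hT.le ha
    have hbM : b ∈ M := hT.le hb
    have h1 := hcomm.is_comm.comm (⟨⟨a, haM⟩, Subgroup.mem_subgroupOf.mpr ha⟩ : ↥(T.subgroupOf M))
      ⟨⟨b, hbM⟩, Subgroup.mem_subgroupOf.mpr hb⟩
    have h2 := congrArg (fun z : ↥(T.subgroupOf M) => ((z : ↥M) : G)) h1
    simpa using h2
  have hom' := hom hxB
  refine ⟨B, hxB, hBe, hBc, hYB, hE', hTcomm, hom', ?_⟩
  intro a ha
  apply mem_normalizer_of_forall_conj_mem
  intro b hb
  apply hom'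
  · exact (mem_normalizer_iff.mp (hAT ha) b).mp (hxB hb)
  · rw [conj_pow, hBe.2 b hb, mul_one, mul_inv_cancel]

end Cfsg.Agent.Helper24.BG11
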