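import Mathlib
import Cfsg.Agent.Lib.Helper24.BG11.Syl
import Cfsg.Agent.Lib.Helper24.Coprime
import Cfsg.Agent.Lib.Helper24.CharSub
import Cfsg.Agent.Lib.Helper10.FrobThompson
import Cfsg.Agent.Lib.Helper1.ZCoprime
import Cfsg.Agent.Lib.Helper52.Coprime

/-!
# B-G 11.7, step 2c: the action of `A` on `B = Ω₁(T)`: `[B, A] = Y1` and `C_B(A) ≠ 1`
-/

set_option autoImplicit false
set_option linter.unusedSectionVars false
set_option linter.style.haveILetI false
open Pointwise

namespace Cfsg.Agent.Helper24.BG11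

open Subgroup Cfsg
open Cfsg.Agent.Helper33
open Cfsg.Agent.Helper34.BG (UniqHyp isElementaryAbelian_isPGroup isElementaryAbelian_mono
  isElementaryAbelian_sup isElementaryAbelian_zpowers commute_of_isElementaryAbelian
  ne_top_of_le_coatom normalizer_ne_top not_pRankLE_of_elemAb solvable_of_ne_top
  not_rankLE_of_elemAb not_normalizer_le_of_not_mem_sigma prime_ne_two isElementaryAbelian_conj)
open Cfsg.Agent.Helper55.BGB (sigmaCore_le isPi_sigmaCore le_normalizer_sigmaCore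
  le_sigmaCore_of_isPGroup le_normalizer_map_subtype)

universe u

variable {G : Type u} [Group G] [Finite G]

/-- a group of prime order acting fixed-point-freely on an abelian group `U` and on a solvable
group `K` of coprime order normalized by `U`: then `U` centralizes `K` (Wielandt's formula). -/
theorem le_centralizer_of_fpf {U E K : Subgroup G} {p : ℕ} (hp : p.Prime)
    (hEc : Nat.card E = p) (hEU : E ≤ normalizer (U : Set G))
    (hUab : ∀ x ∈ U, ∀ y ∈ U, x * y = y * x)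
    (hUE : U ⊓ centralizer (E : Set G) = ⊥) (hKn : U ⊔ E ≤ normalizer (K : Set G))
    (hKs : Group.IsSolvable K)
    (hcop : (Nat.card K).Coprime (Nat.card (U ⊔ E : Subgroup G)))
    (hKE : K ⊓ centralizer (E : Set G) = ⊥) : U ≤ centralizer (K : Set G) := by
  letI : CommGroup U := { (inferInstance : Group U) with
    mul_comm := fun a b => Subtype.ext (hUab a a.2 b b.2) }
  have hUnil : Group.IsNilpotent U := inferInstance
  have hUn : ∀ e ∈ E, ∀ u ∈ U, e * u * e⁻¹ ∈ U :=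
    fun e he u hu => (mem_normalizer_iff.mp (hEU he) u).mp hu
  have fpf : ∀ e ∈ E, e ≠ 1 → ∀ u ∈ U, e * u * e⁻¹ = u → u = 1 := by
    intro e he he1 u hu hfix
    obtain ⟨hz, -⟩ := zpowers_eq_of_card_prime hp hEc he he1
    have hcu : Commute e u := by
      have : e * u = u * e := by
        calc e * u = (e * u * e⁻¹) * e := by group
          _ = u * e := by rw [hfix]
      exact this
    have : u ∈ U ⊓ centralizer (E : Set G) := by
      refine Subgroup.mem_inf.mpr ⟨hu, ?_⟩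
      rw [mem_centralizer_iff]
      intro e' he'
      rw [← hz] at he'
      obtain ⟨k, rfl⟩ := mem_zpowers_iff.mp he'
      exact (hcu.zpow_left k).eq
    rw [hUE, mem_bot] at this
    exact this
  have hW := Cfsg.Agent.Helper10.FrobRep.wielandt_formula U E K hUn hUnil fpf hKn hKs hcop
  have h1 : K ⊓ centralizer ((U ⊔ E : Subgroup G) : Set G) = ⊥ := by
    rw [eq_bot_iff, ← hKE]
    exact inf_le_inf_left K (centralizer_le (by exact_mod_cast (le_sup_right : E ≤ U ⊔ E)))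
  rw [h1, hKE, Subgroup.card_bot, one_pow, one_mul, one_mul] at hW
  have h2 : K ⊓ centralizer (U : Set G) = K :=
    Subgroup.eq_of_le_of_card_ge inf_le_left hW.le
  intro u hu
  rw [mem_centralizer_iff]
  intro k hk
  have hk' : k ∈ K ⊓ centralizer (U : Set G) := by rw [h2]; exact hk
  exact ((mem_centralizer_iff.mp hk'.2) u hu).symm

/-- the subgroup of `N(B) ∩ N(Y)` acting trivially on `B` modulo `Y` -/
def stabMod (B Y : Subgroup G) : Subgroup G where
  carrier := {a | a ∈ normalizer (Y : Set G) ∧ ∀ b ∈ B, b * a * b⁻¹ * a⁻¹ ∈ Y}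
  one_mem' := ⟨one_mem _, fun b _ => by simp⟩
  mul_mem' := by
    rintro a a' ⟨haY, ha⟩ ⟨ha'Y, ha'⟩
    refine ⟨mul_mem haY ha'Y, fun b hb => ?_⟩
    have h1 : a * (b * a' * b⁻¹ * a'⁻¹) * a⁻¹ ∈ Y := (mem_normalizer_iff.mp haY _).mp (ha' b hb)
    have h2 := Y.mul_mem (ha b hb) h1
    have : b * (a * a') * b⁻¹ * (a * a')⁻¹ =
        (b * a * b⁻¹ * a⁻¹) * (a * (b * a' * b⁻¹ * a'⁻¹) * a⁻¹) := by group
    rw [this]; exact h2
  inv_mem' := by
    rintro a ⟨haY, ha⟩
    refine ⟨inv_mem haY, fun b hb => ?_⟩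
    have h1 : (b * a * b⁻¹ * a⁻¹)⁻¹ ∈ Y := Y.inv_mem (ha b hb)
    have h2 : a⁻¹ * (b * a * b⁻¹ * a⁻¹)⁻¹ * a⁻¹⁻¹ ∈ Y :=
      (mem_normalizer_iff.mp (inv_mem haY) _).mp h1
    have : b * a⁻¹ * b⁻¹ * a⁻¹⁻¹ = a⁻¹ * (b * a * b⁻¹ * a⁻¹)⁻¹ * a⁻¹⁻¹ := by group
    rw [this]; exact h2

theorem commutator_le_of_le_stabMod {B Y A : Subgroup G} (h : A ≤ stabMod B Y) : ⁅B, A⁆ ≤ Y := by
  rw [Subgroup.commutator_le]
  intro b hb a ha
  have := (h ha).2 b hb
  rwa [commutatorElement_def]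

theorem le_stabMod_of_commutator_le {B Y A : Subgroup G} (hAY : A ≤ normalizer (Y : Set G))
    (h : ⁅B, A⁆ ≤ Y) : A ≤ stabMod B Y := by
  intro a ha
  refine ⟨hAY ha, fun b hb => ?_⟩
  have := (Subgroup.commutator_le.mp h) b hb a ha
  rwa [commutatorElement_def] at this

/-- B-G 11.7, step 2c, for one fixed-point-free line `Aj` of `A`: `[B, Aj] ≤ Y1`. -/
theorem comm_line_le (hG : Cfsg.IsMinSimpleOddOrder G) (F : Facts G) {M A A0 : Subgroup G}
    {p : ℕ} (hE : Exc M p A A0) {r : ℕ} [hr : Fact r.Prime] (hrp : r ≠ p)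
    {B Y1 : Subgroup G} (hE' : Exc M r B Y1)
    (hY1K : Y1 ≤ centralizer (Cfsg.sigmaCore M : Set G)) (hAB : A ≤ normalizer (B : Set G))
    {Aj : Subgroup G} (hAj : Aj ≤ A) (hAjc : Nat.card Aj = p)
    (hfix : Cfsg.sigmaCore M ⊓ centralizer (Aj : Set G) = ⊥) : ⁅B, Aj⁆ ≤ Y1 := by
  haveI := hE.fact
  have hM := hE.coatom
  have hrP := hr.out
  have hpP := hE.prime
  have hBe := hE'.elem
  have hBr : IsPGroup r B := isElementaryAbelian_isPGroup hBe
  have hAjB : Aj ≤ normalizer (B : Set G) := hAj.trans hAB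
  set U := ⁅B, Aj⁆ with hU
  have hUB : U ≤ B := Cfsg.Agent.Helper24.commutator_le_of_le_normalizer B Aj hAjB
  have hAjU : Aj ≤ normalizer (U : Set G) :=
    Cfsg.Agent.Helper24.le_normalizer_commutator_of_le hAjB le_normalizer
  by_contra hne
  -- `U ⊔ Y1 = B`
  have hUY : U ⊔ Y1 = B := by
    have hle : U ⊔ Y1 ≤ B := sup_le hUB hE'.le0
    apply Subgroup.eq_of_le_of_card_ge hle
    rw [hE'.card]
    refine (card_eq_sq_of_lt hrP hE'.card0 le_sup_right ?_ (hBr.to_le hle) ?_).ge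
    · intro h
      exact hne (le_sup_left.trans h)
    · rw [← hE'.card]; exact Subgroup.card_le_of_le hle
  -- `U` centralizes `K`
  have hAjp : IsPGroup p Aj := IsPGroup.of_card (n := 1) (by rw [hAjc, pow_one])
  have hUr : IsPGroup r U := hBr.to_le hUB
  have hcopAB : (Nat.card Aj).Coprime (Nat.card B) := by
    rw [hAjc, hE'.card]
    exact ((Nat.coprime_primes hpP hrP).mpr (Ne.symm hrp)).pow_right 2
  have hUE : U ⊓ centralizer (Aj : Set G) = ⊥ := by
    haveI : IsMulCommutative B := hBe.1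
    exact Cfsg.Agent.Helper1.ZCoprime.commutator_inf_centralizer_eq_bot Aj B hAjB hcopAB
  have hKn : U ⊔ Aj ≤ normalizer ((Cfsg.sigmaCore M : Subgroup G) : Set G) :=
    (sup_le (hUB.trans hE'.le) (hAj.trans hE.le)).trans (le_normalizer_sigmaCore M)
  have hKs : Group.IsSolvable (Cfsg.sigmaCore M) :=
    solvable_of_ne_top hG (ne_top_of_le_coatom hM (sigmaCore_le M))
  have hdisj : U ⊓ Aj = ⊥ :=
    (IsPGroup.disjoint_of_ne r p hrp U Aj hUr hAjp).eq_bot
  have hcardUA : Nat.card (U ⊔ Aj : Subgroup G) = Nat.card U * Nat.card Aj := by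
    rw [← Cfsg.Agent.Helper52.card_mul_relIndex_eq (le_sup_left : U ≤ U ⊔ Aj),
      Cfsg.Agent.Helper52.relIndex_sup_eq_card U Aj hAjU hdisj]
  have hcop : (Nat.card (Cfsg.sigmaCore M)).Coprime (Nat.card (U ⊔ Aj : Subgroup G)) := by
    rw [hcardUA, hAjc]
    obtain ⟨n, hn⟩ := IsPGroup.iff_card.mp hUr
    rw [hn]
    refine Nat.Coprime.mul_right (Nat.Coprime.pow_right n ?_) ?_
    · exact ((Nat.Prime.coprime_iff_not_dvd hrP).mpr
        (not_dvd_card_sigmaCore hrP hE'.not_sigma)).symm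
    · exact ((Nat.Prime.coprime_iff_not_dvd hpP).mpr
        (not_dvd_card_sigmaCore hpP hE.not_sigma)).symm
  have hUK : U ≤ centralizer (Cfsg.sigmaCore M : Set G) :=
    le_centralizer_of_fpf hpP hAjc hAjU
      (fun x hx y hy => commute_of_isElementaryAbelian hBe (hUB hx) (hUB hy)) hUE hKn hKs hcop hfix
  -- hence `B` centralizes `K`
  have hBK : B ≤ centralizer (Cfsg.sigmaCore M : Set G) := by
    rw [← hUY]; exact sup_le hUK hY1K
  have hKB : Cfsg.sigmaCore M ≤ centralizer (B : Set G) := by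
    intro k hk
    rw [mem_centralizer_iff]
    intro b hb
    exact ((mem_centralizer_iff.mp (hBK hb)) k hk).symm
  apply F.ne_bot M hM
  rw [eq_bot_iff, ← F.cent hE']
  exact le_inf le_rfl hKB

/-- B-G 11.7, step 2c: `[B, A] = Y1` and `C_B(A) ≠ 1`. -/
theorem comm_eq (hG : Cfsg.IsMinSimpleOddOrder G) (F : Facts G) {M A A0 : Subgroup G}
    {p : ℕ} (hE : Exc M p A A0) {r : ℕ} [hr : Fact r.Prime] (hrp : r ≠ p)
    {B Y1 : Subgroup G} (hE' : Exc M r B Y1)
    (hY1K : Y1 ≤ centralizer (Cfsg.sigmaCore M : Set G)) (hAB : A ≤ normalizer (B : Set G))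
    (hY1n : M ≤ normalizer (Y1 : Set G)) (hnc : ¬ A ≤ centralizer (Y1 : Set G)) :
    ⁅B, A⁆ = Y1 ∧ B ⊓ centralizer (A : Set G) ≠ ⊥ := by
  haveI := hE.fact
  have hM := hE.coatom
  have hrP := hr.out
  have hpP := hE.prime
  obtain ⟨A1, A2, hA1, hA2, hc1, hc2, hne, hf1, hf2⟩ := F.fpf2 hE
  have h1 := comm_line_le hG F hE hrp hE' hY1K hAB hA1 hc1 hf1
  have h2 := comm_line_le hG F hE hrp hE' hY1K hAB hA2 hc2 hf2
  have hAY : A ≤ normalizer (Y1 : Set G) := hE.le.trans hY1n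
  have hsup : A1 ⊔ A2 = A := by
    have hle : A1 ⊔ A2 ≤ A := sup_le hA1 hA2
    apply Subgroup.eq_of_le_of_card_ge hle
    rw [hE.card]
    refine (card_eq_sq_of_lt hpP hc1 le_sup_left ?_ (hE.isPGroup.to_le hle) ?_).ge
    · intro h
      have h21 : A2 ≤ A1 := le_sup_right.trans h
      exact hne (Subgroup.eq_of_le_of_card_ge h21 (by rw [hc1, hc2])).symm
    · rw [← hE.card]; exact Subgroup.card_le_of_le hle
  have hle : ⁅B, A⁆ ≤ Y1 := by
    apply commutator_le_of_le_stabMod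
    rw [← hsup]
    exact sup_le (le_stabMod_of_commutator_le (hA1.trans hAY) h1)
      (le_stabMod_of_commutator_le (hA2.trans hAY) h2)
  have hne' : ⁅B, A⁆ ≠ ⊥ := by
    intro h
    have hBA : B ≤ centralizer (A : Set G) := Subgroup.commutator_eq_bot_iff_le_centralizer.mp h
    apply hnc
    intro a ha
    rw [mem_centralizer_iff]
    intro y hy
    exact ((mem_centralizer_iff.mp (hBA (hE'.le0 hy))) a ha).symm
  have heq : ⁅B, A⁆ = Y1 := by
    apply Subgroup.eq_of_le_of_card_ge hle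
    rw [hE'.card0]
    have hd : Nat.card (⁅B, A⁆ : Subgroup G) ∣ r := by
      rw [← hE'.card0]; exact Subgroup.card_dvd_of_le hle
    rcases (Nat.dvd_prime hrP).mp hd with h | h
    · exact absurd (Subgroup.card_eq_one.mp h) hne'
    · exact h.ge
  refine ⟨heq, ?_⟩
  intro hbot
  have hcop : (Nat.card A).Coprime (Nat.card B) := by
    rw [hE.card, hE'.card]
    exact Nat.Coprime.pow 2 2 ((Nat.coprime_primes hpP hrP).mpr (Ne.symm hrp))
  have hdec := Cfsg.Agent.Helper52.eq_commutator_sup_centralizer B A hAB hcop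
    (Or.inl (solvable_of_ne_top hG (ne_top_of_le_coatom hM hE.le)))
  rw [hbot, sup_bot_eq, heq] at hdec
  have := hE'.card
  rw [hdec, hE'.card0] at this
  have h3 : r < r ^ 2 := by
    calc r = r ^ 1 := (pow_one r).symm
      _ < r ^ 2 := Nat.pow_lt_pow_right hrP.one_lt (by norm_num)
  omega

end Cfsg.Agent.Helper24.BG11
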