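import Mathlib
import Cfsg.Agent.Lib.Helper24.BG11.Act
import Cfsg.Agent.Lib.Helper54.Transitivity

/-!
# B-G 11.7, step 3: the transitivity theorem gives `h ∈ N(A) ∩ N(T*) \ M`
-/

set_option autoImplicit false
set_option linter.unusedSectionVars false
set_option linter.style.haveILetI false
open Pointwise

namespace Cfsg.Agent.Helper24.BG11

open Subgroup Cfsg
open Cfsg.Agent.Helper33
open Cfsg.Agent.Helper34.BG (UniqHyp isElementaryAbelian_isPGroup isElementaryAbelian_mono
  isElementaryAbelian_sup isElementaryAbelian_zpowers commute_of_isElementaryAbelian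
  ne_top_of_le_coatom normalizer_ne_top not_pRankLE_of_elemAb solvable_of_ne_top
  not_rankLE_of_elemAb not_normalizer_le_of_not_mem_sigma prime_ne_two isElementaryAbelian_conj)

universe u

variable {G : Type u} [Group G] [Finite G]

/-- B-G 11.7, step 3. -/
theorem exists_h (hG : Cfsg.IsMinSimpleOddOrder G) (F : Facts G) {M A A0 : Subgroup G}
    {p : ℕ} (hE : Exc M p A A0) {r : ℕ} [hr : Fact r.Prime] (hrp : r ≠ p)
    {T : Subgroup G} (hTr : IsPGroup r T) (hAT : A ≤ normalizer (T : Set G))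
    (hrC : r ∣ Nat.card (centralizer (A : Set G))) :
    ∃ (Ts : Subgroup G) (h : G), Cfsg.Agent.Helper54.IsMaxInvQ A r Ts ∧ T ≤ Ts ∧
      h ∈ normalizer (A : Set G) ∧ h ∈ normalizer (Ts : Set G) ∧ h ∉ M := by
  haveI := hE.fact
  have hrP := hr.out
  have hpP := hE.prime
  have hTH := hE.trans hG
  have hAab : A ≤ centralizer (A : Set G) := by
    intro x hx
    rw [mem_centralizer_iff]
    intro y hy
    exact commute_of_isElementaryAbelian hE.elem hy hx
  have hZ : ¬ Cfsg.RankLE 1 ↥(A ⊓ centralizer (A : Set G)) := by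
    refine not_rankLE_of_elemAb hpP (le_inf le_rfl hAab) hE.elem ?_
    rw [hE.card]; exact Nat.pow_lt_pow_right hpP.one_lt (by norm_num)
  obtain ⟨Ts, hTs, hTTs⟩ := Cfsg.Agent.Helper54.exists_isMaxInvQ_ge hTr hAT
  obtain ⟨n, hnA, hnM⟩ := SetLike.not_le_iff_exists.mp (F.norm hE)
  have hTs' := Cfsg.Agent.Helper54.IsMaxInvQ.conj hnA hTs
  have hm1 := Cfsg.Agent.Helper54.mem_maxInvSubgroups_of_isMaxInvQ A r Ts hTs
  have hm2 := Cfsg.Agent.Helper54.mem_maxInvSubgroups_of_isMaxInvQ A r _ hTs'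
  have hrA : ¬ r ∣ Nat.card A := by
    rw [hE.card]
    intro h
    exact hrp ((Nat.prime_dvd_prime_iff_eq hrP hpP).mp (hrP.dvd_of_dvd_pow h))
  obtain ⟨k, hk, hkT⟩ := Cfsg.Agent.S1394.result hG A hTH hZ r hrP hrA hrC Ts hm1 _ hm2
  have hkC : k ∈ centralizer (A : Set G) := by
    have : Cfsg.piCoreOf (Cfsg.primesNotDvd (Nat.card A)) (centralizer (A : Set G)) ≤
        centralizer (A : Set G) := Subgroup.map_subtype_le _
    exact this hk
  have hkM : k ∈ M := hE.cent_le hkC
  have hkN : k ∈ normalizer (A : Set G) := centralizer_le_normalizer _ hkC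
  refine ⟨Ts, k⁻¹ * n, hTs, hTTs, mul_mem (inv_mem hkN) hnA, ?_, ?_⟩
  · rw [mem_normalizer_iff_smul_eq, conj_mul_smul]
    have h1 : MulAut.conj n • Ts = MulAut.conj k • Ts := by
      rw [← map_conj_eq_smul, ← map_conj_eq_smul]
      exact hkT
    rw [h1, conj_inv_smul_smul]
  · intro h
    apply hnM
    have := M.mul_mem hkM h
    simpa [mul_assoc] using this

end Cfsg.Agent.Helper24.BG11
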