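import Mathlib
import Cfsg.Agent.Lib.Helper24.BG11.Trans

/-!
# B-G 11.7, step 4: general lemmas for the final contradiction
-/

set_option autoImplicit false
set_option linter.unusedSectionVars false
set_option linter.style.haveILetI false
open Pointwise

namespace Cfsg.Agent.Helper24.BG11

open Subgroup Cfsg
open scoped commutatorElement
open Cfsg.Agent.Helper33
open Cfsg.Agent.Helper34.BG (UniqHyp isElementaryAbelian_isPGroup isElementaryAbelian_mono
  isElementaryAbelian_sup isElementaryAbelian_zpowers commute_of_isElementaryAbelian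
  ne_top_of_le_coatom normalizer_ne_top not_pRankLE_of_elemAb solvable_of_ne_top
  not_rankLE_of_elemAb not_normalizer_le_of_not_mem_sigma prime_ne_two isElementaryAbelian_conj)

universe u

variable {G : Type u} [Group G] [Finite G]

/-- an elementary abelian group `A` of order `p ^ 2` normalizing but not centralizing a group `Y` of
prime order has `|C_A(Y)| = p` -/
theorem card_inf_centralizer_line {p r : ℕ} (hp : p.Prime) [hr : Fact r.Prime] {A Y : Subgroup G}
    (hAe : ∀ a ∈ A, a ^ p = 1) (hAc : Nat.card A = p ^ 2) (hY : Nat.card Y = r)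
    (hAY : A ≤ normalizer (Y : Set G)) (hnc : ¬ A ≤ centralizer (Y : Set G)) :
    Nat.card (A ⊓ centralizer (Y : Set G) : Subgroup G) = p := by
  haveI : Fact p.Prime := ⟨hp⟩
  haveI : IsCyclic ↥Y := isCyclic_of_prime_card hY
  haveI : Fact (Nat.card ↥Y).Prime := ⟨hY.symm ▸ hr.out⟩
  haveI : IsCyclic (MulAut ↥Y) :=
    (MulEquiv.isCyclic (IsCyclic.mulAutMulEquiv ↥Y)).mpr inferInstance
  set φ : ↥A →* MulAut ↥Y := Y.normalizerMonoidHom.comp (Subgroup.inclusion hAY) with hφ
  have hker : φ.ker = (A ⊓ centralizer (Y : Set G)).subgroupOf A := by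
    ext a
    rw [MonoidHom.mem_ker, hφ, MonoidHom.comp_apply, ← MonoidHom.mem_ker,
      Subgroup.normalizerMonoidHom_ker, mem_subgroupOf, mem_subgroupOf, mem_inf]
    simp
  have hcardker : Nat.card φ.ker = Nat.card (A ⊓ centralizer (Y : Set G) : Subgroup G) := by
    rw [hker]
    exact Nat.card_congr (Subgroup.subgroupOfEquivOfLe inf_le_left).toEquiv
  -- the range is cyclic of exponent dividing `p`
  have hrange : Nat.card φ.range ∣ p := by
    haveI : IsCyclic ↥φ.range := Subgroup.isCyclic _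
    obtain ⟨g, hg⟩ := IsCyclic.exists_generator (α := ↥φ.range)
    have hgo : orderOf g = Nat.card ↥φ.range := orderOf_eq_card_of_forall_mem_zpowers hg
    rw [← hgo]
    apply orderOf_dvd_of_pow_eq_one
    obtain ⟨a, ha⟩ := g.2
    apply Subtype.ext
    rw [Subgroup.coe_pow, ← ha, ← map_pow]
    have : a ^ p = 1 := by
      apply Subtype.ext
      rw [Subgroup.coe_pow]
      exact hAe a.1 a.2
    rw [this, map_one]
    rfl
  have hmul : Nat.card φ.ker * Nat.card φ.range = p ^ 2 := by
    rw [← Subgroup.index_ker, Subgroup.card_mul_index, hAc]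
  rw [← hcardker]
  rcases (Nat.dvd_prime hp).mp hrange with h1 | h1
  · exfalso
    rw [h1, mul_one] at hmul
    apply hnc
    have htop : φ.ker = ⊤ := by
      apply Subgroup.eq_top_of_card_eq
      rw [hmul, hAc]
    intro a ha
    have : (⟨a, ha⟩ : ↥A) ∈ φ.ker := by rw [htop]; exact mem_top _
    rw [hker, mem_subgroupOf] at this
    exact this.2
  · rw [h1] at hmul
    have hp0 : 0 < p := hp.pos
    have : Nat.card φ.ker * p = p * p := by rw [hmul]; ring
    exact Nat.eq_of_mul_eq_mul_right hp0 this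

/-- a nontrivial `r`-subgroup of `H` shows `r ∣ |H|` -/
theorem dvd_card_of_inf_ne_bot {r : ℕ} [hr : Fact r.Prime] {B H : Subgroup G} (hB : IsPGroup r B)
    (h : B ⊓ H ≠ ⊥) : r ∣ Nat.card H := by
  have h1 : IsPGroup r (B ⊓ H : Subgroup G) := hB.to_le inf_le_left
  obtain ⟨k, hk⟩ := IsPGroup.iff_card.mp h1
  have hk0 : k ≠ 0 := by
    intro h0
    rw [h0, pow_zero] at hk
    exact h (Subgroup.card_eq_one.mp hk)
  have h2 : r ∣ Nat.card (B ⊓ H : Subgroup G) := by rw [hk]; exact dvd_pow_self r hk0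
  exact h2.trans (Subgroup.card_dvd_of_le inf_le_right)

/-- `[Z, A] ≤ Z` when `A` normalizes `Z` -/
theorem commutator_le_of_le_normalizer {Z A : Subgroup G} (h : A ≤ normalizer (Z : Set G)) :
    ⁅Z, A⁆ ≤ Z := by
  rw [Subgroup.commutator_le]
  intro z hz a ha
  have h1 : a * z⁻¹ * a⁻¹ ∈ Z := (mem_normalizer_iff.mp (h ha) z⁻¹).mp (Z.inv_mem hz)
  have : ⁅z, a⁆ = z * (a * z⁻¹ * a⁻¹) := by rw [commutatorElement_def]; group
  rw [this]
  exact Z.mul_mem hz h1

/-- a subgroup of prime order meets any subgroup not containing it trivially -/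
theorem inf_eq_bot_of_card_prime {r : ℕ} (hr : r.Prime) {Y Z : Subgroup G} (hY : Nat.card Y = r)
    (h : ¬ Y ≤ Z) : Z ⊓ Y = ⊥ := by
  by_contra hne
  apply h
  obtain ⟨y, hy⟩ := (Subgroup.ne_bot_iff_exists_ne_one.mp hne)
  have hyZ : (y : G) ∈ Z := (mem_inf.mp y.2).1
  have hyY : (y : G) ∈ Y := (mem_inf.mp y.2).2
  have hy1' : (y : G) ≠ 1 := fun h => hy (Subtype.ext h)
  obtain ⟨hz, -⟩ := zpowers_eq_of_card_prime hr hY hyY hy1'
  rw [← hz]
  exact zpowers_le.mpr hyZ

/-- conjugation by an element of `N(S)` preserves `{x ∈ S | x ^ r = 1}` -/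
theorem mem_normalizer_of_omega {r : ℕ} {S P : Subgroup G} {g : G}
    (hg : g ∈ normalizer (S : Set G)) (hPS : P ≤ S) (hPe : ∀ x ∈ P, x ^ r = 1)
    (hom : ∀ x ∈ S, x ^ r = 1 → x ∈ P) : g ∈ normalizer (P : Set G) := by
  apply mem_normalizer_of_forall_conj_mem
  intro x hx
  apply hom
  · exact (mem_normalizer_iff.mp hg x).mp (hPS hx)
  · rw [conj_pow, hPe x hx, mul_one, mul_inv_cancel]

end Cfsg.Agent.Helper24.BG11
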