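import Mathlib
import Cfsg.Agent.Lib.Helper24.BG11.Fin1
import Cfsg.Agent.S1413
import Cfsg.Agent.S1408
import Cfsg.Agent.Lib.Helper2.Frobenius

/-!
# B-G 11.7, step 4: the configuration after steps 1-3, and the maximal subgroup `L ⊇ N(Z)`
-/

set_option autoImplicit false
set_option linter.unusedSectionVars false
set_option linter.style.haveILetI false
open Pointwise

namespace Cfsg.Agent.Helper24.BG11

open Subgroup Cfsg
open scoped commutatorElement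
open Cfsg.Agent.Helper33
open Cfsg.Agent.Helper34.BG (UniqHyp isElementaryAbelian_isPGroup isElementaryAbelian_mono
  isElementaryAbelian_sup isElementaryAbelian_zpowers commute_of_isElementaryAbelian
  ne_top_of_le_coatom normalizer_ne_top not_pRankLE_of_elemAb solvable_of_ne_top
  not_rankLE_of_elemAb not_normalizer_le_of_not_mem_sigma prime_ne_two isElementaryAbelian_conj)
open Cfsg.Agent.Helper55.BGB (sigmaCore_le isPi_sigmaCore le_normalizer_sigmaCore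
  le_sigmaCore_of_isPGroup)

universe u

variable {G : Type u} [Group G] [Finite G]

/-- the configuration reached after steps 1-3 of the proof of B-G 11.7 -/
structure Cfg (M : Subgroup G) (p : ℕ) (A A0 : Subgroup G) (r : ℕ) (Y1 T B Ts : Subgroup G)
    (h : G) : Prop where
  exc : Exc M p A A0
  exc' : Exc M r B Y1
  hrp : r ≠ p
  hY1n : M ≤ normalizer (Y1 : Set G)
  hnc : ¬ A ≤ centralizer (Y1 : Set G)
  hT : IsSylIn r T M
  hBT : B ≤ T
  hom : ∀ x ∈ T, x ^ r = 1 → x ∈ B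
  hAB : A ≤ normalizer (B : Set G)
  hcomm : ⁅B, A⁆ = Y1
  hTs : Cfsg.Agent.Helper54.IsMaxInvQ A r Ts
  hTTs : T ≤ Ts
  hhA : h ∈ normalizer (A : Set G)
  hhTs : h ∈ normalizer (Ts : Set G)
  hhM : h ∉ M

namespace Cfg

variable {M A A0 Y1 T B Ts : Subgroup G} {p r : ℕ} {h : G}

theorem Y1_ne_bot (c : Cfg M p A A0 r Y1 T B Ts h) : Y1 ≠ ⊥ := by
  intro h0
  have h1 := c.exc'.card0
  rw [h0, Subgroup.card_bot] at h1
  exact c.exc'.prime.one_lt.ne h1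

theorem hNY (c : Cfg M p A A0 r Y1 T B Ts h) (hG : Cfsg.IsMinSimpleOddOrder G) :
    normalizer (Y1 : Set G) = M :=
  normalizer_eq_of_normal hG c.exc.coatom c.exc'.le0M c.hY1n c.Y1_ne_bot

/-- `h ∈ N(B)` is impossible -/
theorem false_of_mem_normalizer_B (c : Cfg M p A A0 r Y1 T B Ts h)
    (hG : Cfsg.IsMinSimpleOddOrder G) (hhB : h ∈ normalizer (B : Set G)) : False := by
  have hhY : h ∈ normalizer (Y1 : Set G) := by
    have := Cfsg.Agent.Helper24.mem_normalizer_commutator_of_mem hhB c.hhA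
    rwa [c.hcomm] at this
  rw [c.hNY hG] at hhY
  exact c.hhM hhY

theorem B_le_S (c : Cfg M p A A0 r Y1 T B Ts h) (S : Sylow r G)
    (hTsS : Ts ≤ (S : Subgroup G)) : B ≤ (S : Subgroup G) :=
  c.hBT.trans (c.hTTs.trans hTsS)

/-- `S ∩ M = T` -/
theorem mem_T (c : Cfg M p A A0 r Y1 T B Ts h) (S : Sylow r G)
    (hTsS : Ts ≤ (S : Subgroup G)) {x : G} (hxS : x ∈ (S : Subgroup G)) (hxM : x ∈ M) :
    x ∈ T := by
  haveI := c.exc'.fact
  have hQ : IsPGroup r ((S : Subgroup G) ⊓ M : Subgroup G) := S.isPGroup'.to_le inf_le_left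
  have := c.hT.eq_of_le hQ inf_le_right (le_inf (c.hTTs.trans hTsS) c.hT.le)
  rw [← this]
  exact ⟨hxS, hxM⟩

/-- `Z = Ω₁(Z(S)) ≤ B` -/
theorem omZ_le_B (c : Cfg M p A A0 r Y1 T B Ts h) (S : Sylow r G)
    (hTsS : Ts ≤ (S : Subgroup G)) : omZ r (S : Subgroup G) ≤ B := by
  intro z hz
  have hzS : z ∈ (S : Subgroup G) := omZ_le r _ hz
  have hBS := c.B_le_S S hTsS
  have hzC : z ∈ centralizer (B : Set G) :=
    Subgroup.centralizer_le (SetLike.coe_subset_coe.mpr hBS) (omZ_le_centralizer r _ hz)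
  have hzM : z ∈ M := c.exc'.cent_le hzC
  exact c.hom z (c.mem_T S hTsS hzS hzM) hz.2.2

/-- `N(T*) ≤ N(Z)` (S1413, last clause) -/
theorem normalizer_Ts_le (c : Cfg M p A A0 r Y1 T B Ts h) (hG : Cfsg.IsMinSimpleOddOrder G)
    (S : Sylow r G) (hTsS : Ts ≤ (S : Subgroup G)) :
    normalizer (Ts : Set G) ≤ normalizer (omZ r (S : Subgroup G) : Set G) := by
  haveI := c.exc'.fact
  have hZTs : omZ r (S : Subgroup G) ≤ Ts := (c.omZ_le_B S hTsS).trans (c.hBT.trans c.hTTs)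
  exact (Cfsg.Agent.S1413.result hG r S).2.2 Ts _ c.hTs.1 (le_inf (omZ_le r _) hZTs)
    (normalizer_le_normalizer_omZ r _)

theorem omZ_ne_Y1 (c : Cfg M p A A0 r Y1 T B Ts h) (hG : Cfsg.IsMinSimpleOddOrder G)
    (S : Sylow r G) (hTsS : Ts ≤ (S : Subgroup G)) : omZ r (S : Subgroup G) ≠ Y1 := by
  intro heq
  have h1 := c.normalizer_Ts_le hG S hTsS c.hhTs
  rw [heq, c.hNY hG] at h1
  exact c.hhM h1

/-- `B ≰ Z` -/
theorem not_B_le_omZ (c : Cfg M p A A0 r Y1 T B Ts h) (hG : Cfsg.IsMinSimpleOddOrder G)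
    (S : Sylow r G) (hTsS : Ts ≤ (S : Subgroup G)) : ¬ B ≤ omZ r (S : Subgroup G) := by
  intro hBZ
  haveI := c.exc'.fact
  have hSC : (S : Subgroup G) ≤ centralizer (B : Set G) := by
    rw [Subgroup.le_centralizer_iff]
    exact hBZ.trans (omZ_le_centralizer r _)
  have hST : (S : Subgroup G) ≤ T := fun x hx => c.mem_T S hTsS hx (c.exc'.cent_le (hSC hx))
  have hTsT : Ts = T := le_antisymm (hTsS.trans hST) c.hTTs
  have hhT : h ∈ normalizer (T : Set G) := hTsT ▸ c.hhTs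
  exact c.false_of_mem_normalizer_B hG (mem_normalizer_of_omega hhT c.hBT c.exc'.elem.2 c.hom)

/-- `Z ∩ Y1 = 1` -/
theorem omZ_inf (c : Cfg M p A A0 r Y1 T B Ts h) (hG : Cfsg.IsMinSimpleOddOrder G)
    (S : Sylow r G) (hTsS : Ts ≤ (S : Subgroup G)) : omZ r (S : Subgroup G) ⊓ Y1 = ⊥ := by
  apply inf_eq_bot_of_card_prime c.exc'.prime c.exc'.card0
  intro hYZ
  have hZB := c.omZ_le_B S hTsS
  have hne : ¬ omZ r (S : Subgroup G) ≤ Y1 :=
    fun hle => c.omZ_ne_Y1 hG S hTsS (le_antisymm hle hYZ)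
  have hZr : IsPGroup r (omZ r (S : Subgroup G)) := c.exc'.isPGroup.to_le hZB
  have hcard := card_eq_sq_of_lt c.exc'.prime c.exc'.card0 hYZ hne hZr
    (by rw [← c.exc'.card]; exact Subgroup.card_le_of_le hZB)
  apply c.not_B_le_omZ hG S hTsS
  exact (Subgroup.eq_of_le_of_card_ge hZB (by rw [hcard, c.exc'.card])).ge

/-- `A` centralizes `Z` -/
theorem A_le_centralizer_omZ (c : Cfg M p A A0 r Y1 T B Ts h) (hG : Cfsg.IsMinSimpleOddOrder G)
    (S : Sylow r G) (hTsS : Ts ≤ (S : Subgroup G)) :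
    A ≤ centralizer (omZ r (S : Subgroup G) : Set G) := by
  have hAZ : A ≤ normalizer (omZ r (S : Subgroup G) : Set G) :=
    c.hTs.2.1.trans (c.normalizer_Ts_le hG S hTsS)
  have h1 : ⁅omZ r (S : Subgroup G), A⁆ ≤ omZ r (S : Subgroup G) :=
    commutator_le_of_le_normalizer hAZ
  have h2 : ⁅omZ r (S : Subgroup G), A⁆ ≤ Y1 := by
    rw [← c.hcomm]; exact Subgroup.commutator_mono (c.omZ_le_B S hTsS) le_rfl
  have h3 : ⁅omZ r (S : Subgroup G), A⁆ = ⊥ := by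
    rw [eq_bot_iff, ← c.omZ_inf hG S hTsS]; exact le_inf h1 h2
  rw [Subgroup.commutator_eq_bot_iff_le_centralizer] at h3
  exact Subgroup.le_centralizer_iff.mp h3

theorem S_ne_bot (c : Cfg M p A A0 r Y1 T B Ts h) (S : Sylow r G)
    (hTsS : Ts ≤ (S : Subgroup G)) : (S : Subgroup G) ≠ ⊥ := by
  intro h0
  apply c.Y1_ne_bot
  rw [eq_bot_iff, ← h0]
  exact c.exc'.le0.trans (c.B_le_S S hTsS)

theorem omZ_ne_bot' (c : Cfg M p A A0 r Y1 T B Ts h) (S : Sylow r G)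
    (hTsS : Ts ≤ (S : Subgroup G)) : omZ r (S : Subgroup G) ≠ ⊥ := by
  haveI := c.exc'.fact
  exact omZ_ne_bot S.isPGroup' (c.S_ne_bot S hTsS)

/-- the maximal subgroup `L ⊇ N(Z)` -/
theorem exists_L (c : Cfg M p A A0 r Y1 T B Ts h) (hG : Cfsg.IsMinSimpleOddOrder G)
    (S : Sylow r G) (hTsS : Ts ≤ (S : Subgroup G)) :
    ∃ L : Subgroup G, IsCoatom L ∧ (S : Subgroup G) ≤ L ∧ A ≤ L ∧ r ∈ Cfsg.sigma L := by
  haveI := c.exc'.fact
  have hZ1 := c.omZ_ne_bot' S hTsS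
  have hZtop : omZ r (S : Subgroup G) ≠ ⊤ :=
    ne_top_of_le_coatom c.exc.coatom ((c.omZ_le_B S hTsS).trans c.exc'.le)
  obtain ⟨L, hL, hNL⟩ := Cfsg.Agent.Helper34.BG.exists_coatom_ge (normalizer_ne_top hG hZ1 hZtop)
  have hNS : normalizer ((S : Subgroup G) : Set G) ≤ L :=
    (normalizer_le_normalizer_omZ r _).trans hNL
  have hSL : (S : Subgroup G) ≤ L := le_normalizer.trans hNS
  have hAL : A ≤ L := (c.hTs.2.1.trans (c.normalizer_Ts_le hG S hTsS)).trans hNL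
  have hY1L : Y1 ≤ L := (c.exc'.le0.trans (c.B_le_S S hTsS)).trans hSL
  have hdvd : r ∣ Nat.card L := by
    have := Subgroup.card_dvd_of_le hY1L
    rwa [c.exc'.card0] at this
  exact ⟨L, hL, hSL, hAL,
    Cfsg.Agent.Helper34.BG.mem_sigma_of_isSylIn ((isSylIn_top S).of_le hSL le_top) hdvd hNS⟩

/-- the case `p ∈ σ(L)` -/
theorem false_of_mem_sigma (c : Cfg M p A A0 r Y1 T B Ts h) (hG : Cfsg.IsMinSimpleOddOrder G)
    (S : Sylow r G) (hTsS : Ts ≤ (S : Subgroup G)) {L : Subgroup G} (hL : IsCoatom L)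
    (hSL : (S : Subgroup G) ≤ L) (hAL : A ≤ L) (hrσ : r ∈ Cfsg.sigma L)
    (hpσ : p ∈ Cfsg.sigma L) : False := by
  haveI := c.exc'.fact
  have hrP := c.exc'.prime
  have hpP := c.exc.prime
  have hhall := hallOf hG hL
  have hY1L : Y1 ≤ L := (c.exc'.le0.trans (c.B_le_S S hTsS)).trans hSL
  have hAK : A ≤ Cfsg.sigmaCore L := le_sigmaCore_of_isPGroup hpP hhall hpσ hAL c.exc.isPGroup
  have hYK : Y1 ≤ Cfsg.sigmaCore L :=
    le_sigmaCore_of_isPGroup hrP hhall hrσ hY1L (c.exc'.isPGroup.to_le c.exc'.le0)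
  have h2 := c.exc'.tau2 hG
  have hrβ : r ∉ Cfsg.beta L := fun hβ =>
    (Cfsg.Agent.S1408.result hG M c.exc.coatom r c.exc'.not_sigma h2.2.2.1 h2.2.2.2).1 hβ.2
  have hdvd : r ∣ Nat.card L := by
    have := Subgroup.card_dvd_of_le hY1L
    rwa [c.exc'.card0] at this
  obtain ⟨P, N, hNn, hNc⟩ := ((Cfsg.Agent.S1414.result hG L hL).2.2.2.2 r hrP hdvd hrβ).2.1
  have hAY : A ≤ normalizer (Y1 : Set G) := c.exc.le.trans c.hY1n
  apply c.hnc
  intro a ha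
  rw [mem_centralizer_iff]
  intro y hy
  have hcY : a * y * a⁻¹ * y⁻¹ ∈ Y1 :=
    Y1.mul_mem ((mem_normalizer_iff.mp (hAY ha) y).mp hy) (Y1.inv_mem hy)
  have hco : orderOf (a * y * a⁻¹ * y⁻¹) ∣ r := by
    rw [← c.exc'.card0]; exact Subgroup.orderOf_dvd_natCard Y1 hcY
  set a' : ↥(Cfsg.sigmaCore L) := ⟨a, hAK ha⟩ with ha'
  set y' : ↥(Cfsg.sigmaCore L) := ⟨y, hYK hy⟩ with hy'
  have haN : a' ∈ N := by
    rw [Cfsg.Agent.Helper2.mem_normalPComplement_iff P N hNc, ← Subgroup.orderOf_coe]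
    have h1 : orderOf a ∣ p := orderOf_dvd_of_pow_eq_one (c.exc.elem.2 a ha)
    exact Nat.Coprime.coprime_dvd_left h1 ((Nat.coprime_primes hpP hrP).mpr c.hrp.symm)
  have hcN : a' * y' * a'⁻¹ * y'⁻¹ ∈ N := by
    have h1 : y' * a'⁻¹ * y'⁻¹ ∈ N := hNn.conj_mem _ (N.inv_mem haN) _
    have h2 : a' * y' * a'⁻¹ * y'⁻¹ = a' * (y' * a'⁻¹ * y'⁻¹) := by group
    rw [h2]
    exact N.mul_mem haN h1
  rw [Cfsg.Agent.Helper2.mem_normalPComplement_iff P N hNc, ← Subgroup.orderOf_coe] at hcN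
  have hcoe : ((a' * y' * a'⁻¹ * y'⁻¹ : ↥(Cfsg.sigmaCore L)) : G) = a * y * a⁻¹ * y⁻¹ := rfl
  rw [hcoe] at hcN
  have h1 : orderOf (a * y * a⁻¹ * y⁻¹) = 1 := Nat.Coprime.eq_one_of_dvd hcN hco
  have h3 : a * y * a⁻¹ * y⁻¹ = 1 := orderOf_eq_one_iff.mp h1
  calc y * a = (a * y * a⁻¹ * y⁻¹)⁻¹ * (a * y) := by group
    _ = a * y := by rw [h3, inv_one, one_mul]

end Cfg

end Cfsg.Agent.Helper24.BG11
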