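import Mathlib
import Cfsg.Agent.Lib.Helper24.BG11.Fin2
import Cfsg.Agent.S1412
import Cfsg.Agent.Lib.Helper80.EigenNorm
import Cfsg.Agent.Lib.Helper22.BG11W2

/-!
# B-G 11.7: the final contradiction, `cent_pCore` and `thm117`

`cent_pCore`: under `Facts G` (B-G 11.1-11.6), for an exceptional quadruple `(M, p, A, A0)`, the
group `A` centralizes `O_r(M)` for every prime `r ≠ p` outside `σ(M)`.

`thm117`: hence `M ≤ N_G(M_σ A)` (B-G Theorem 11.7).
-/

set_option autoImplicit false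
set_option linter.unusedSectionVars false
set_option linter.style.haveILetI false
open Pointwise

namespace Cfsg.Agent.Helper24.BG11

open Subgroup Cfsg
open scoped commutatorElement
open Cfsg.Agent.Helper33
open Cfsg.Agent.Helper34.BG (UniqHyp isElementaryAbelian_isPGroup isElementaryAbelian_mono
  isElementaryAbelian_sup isElementaryAbelian_zpowers commute_of_isElementaryAbelian
  ne_top_of_le_coatom normalizer_ne_top not_pRankLE_of_elemAb solvable_of_ne_top
  not_rankLE_of_elemAb not_normalizer_le_of_not_mem_sigma prime_ne_two isElementaryAbelian_conj)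
open Cfsg.Agent.Helper55.BGB (sigmaCore_le isPi_sigmaCore le_normalizer_sigmaCore
  le_sigmaCore_of_isPGroup)

universe u

variable {G : Type u} [Group G] [Finite G]

namespace Cfg

variable {M A A0 Y1 T B Ts : Subgroup G} {p r : ℕ} {h : G}

/-- in the case `p ∉ σ(L)`, `T* = S` is a Sylow `r`-subgroup of `G` -/
theorem S_eq_Ts (c : Cfg M p A A0 r Y1 T B Ts h) (hG : Cfsg.IsMinSimpleOddOrder G)
    (S : Sylow r G) (hTsS : Ts ≤ (S : Subgroup G)) {L : Subgroup G} (hL : IsCoatom L)
    (hSL : (S : Subgroup G) ≤ L) (hAL : A ≤ L) (hrσ : r ∈ Cfsg.sigma L)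
    (hpσ : p ∉ Cfsg.sigma L) : (S : Subgroup G) = Ts := by
  haveI := c.exc'.fact
  have hrP := c.exc'.prime
  have hpP := c.exc.prime
  have hTsK : Ts ≤ Cfsg.sigmaCore L :=
    le_sigmaCore_of_isPGroup hrP (hallOf hG hL) hrσ (hTsS.trans hSL) c.hTs.1
  have hAK : A ≤ normalizer ((Cfsg.sigmaCore L : Subgroup G) : Set G) :=
    hAL.trans (le_normalizer_sigmaCore L)
  have hcop : (Nat.card A).Coprime (Nat.card (Cfsg.sigmaCore L)) := by
    rw [c.exc.card]
    exact Nat.Coprime.pow_left 2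
      ((Nat.Prime.coprime_iff_not_dvd hpP).mpr (not_dvd_card_sigmaCore hpP hpσ))
  have hsolv : Group.IsSolvable (Cfsg.sigmaCore L) :=
    solvable_of_ne_top hG (ne_top_of_le_coatom hL (sigmaCore_le L))
  obtain ⟨Q, hQK, hQc, hTsQ, hAQ⟩ := Cfsg.Agent.Helper52.exists_invariant_sylow_ge A
    (Cfsg.sigmaCore L) hAK hcop (Or.inr hsolv) r Ts hTsK c.hTs.1 c.hTs.2.1
  have hQc' : Nat.card Q = r ^ (Nat.card (Cfsg.sigmaCore L)).factorization r := hQc
  have hQr : IsPGroup r Q := IsPGroup.of_card hQc'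
  have hQTs : Q = Ts := c.hTs.2.2 Q hQr hAQ hTsQ
  have hidx : ¬ r ∣ (Cfsg.sigmaCore L).index := (hallTop hG hL).2 r hrP hrσ
  have hcard : Nat.card Ts = r ^ (Nat.card G).factorization r := by
    rw [← hQTs, hQc', BG125.factorization_card_of_not_dvd_index hidx]
  exact BG125.eq_of_le_of_card_sylow hcard S.isPGroup' hTsS

/-- the case `p ∉ σ(L)` -/
theorem false_of_not_mem_sigma (c : Cfg M p A A0 r Y1 T B Ts h)
    (hG : Cfsg.IsMinSimpleOddOrder G) (F : Facts G)
    (S : Sylow r G) (hTsS : Ts ≤ (S : Subgroup G)) {L : Subgroup G} (hL : IsCoatom L)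
    (hSL : (S : Subgroup G) ≤ L) (hAL : A ≤ L) (hrσ : r ∈ Cfsg.sigma L)
    (hpσ : p ∉ Cfsg.sigma L) : False := by
  haveI := c.exc'.fact
  have hrP := c.exc'.prime
  have hpP := c.exc.prime
  have hSTs := c.S_eq_Ts hG S hTsS hL hSL hAL hrσ hpσ
  have hAS : A ≤ normalizer ((S : Subgroup G) : Set G) := by rw [hSTs]; exact c.hTs.2.1
  have hhS : h ∈ normalizer ((S : Subgroup G) : Set G) := by rw [hSTs]; exact c.hhTs
  have hAY : A ≤ normalizer (Y1 : Set G) := c.exc.le.trans c.hY1n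
  have hBS := c.B_le_S S hTsS
  have hZ1 := c.omZ_ne_bot' S hTsS
  have hAcZ := c.A_le_centralizer_omZ hG S hTsS
  by_cases hrk : Cfsg.PRankLE r 2 ↥(S : Subgroup G)
  · -- `S` narrow: S1412 and the eigen-line argument
    rcases Cfsg.Agent.S1412.result hG r S hrk with hab |
      ⟨P1, P2, hsup, hcomm12, hna, hP1c, hexp, hcyc, hcl⟩
    · apply c.not_B_le_omZ hG S hTsS
      intro b hb
      refine ⟨hBS hb, fun y hy => ?_, c.exc'.elem.2 b hb⟩
      have := hab.is_comm.comm (⟨y, hy⟩ : ↥(S : Subgroup G)) ⟨b, hBS hb⟩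
      exact congrArg Subtype.val this
    · have hP1S : P1 ≤ (S : Subgroup G) := hsup ▸ le_sup_left
      have hP2S : P2 ≤ (S : Subgroup G) := hsup ▸ le_sup_right
      have hP1e : ∀ x ∈ P1, x ^ r = 1 := by
        intro x hx
        have := Monoid.pow_exponent_eq_one (⟨x, hx⟩ : ↥P1)
        rw [hexp] at this
        exact congrArg Subtype.val this
      have hP2N : P2 ≤ normalizer (P1 : Set G) := by
        intro b hb
        apply Subgroup.centralizer_le_normalizer
        rw [mem_centralizer_iff]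
        intro a ha
        exact hcomm12 a ha b hb
      have hdecomp : ∀ x ∈ (S : Subgroup G), ∃ s1 ∈ P1, ∃ s2 ∈ P2, s1 * s2 = x := by
        intro x hx
        rw [← hsup, ← SetLike.mem_coe,
          Subgroup.coe_mul_of_right_le_normalizer_left P1 P2 hP2N] at hx
        exact Set.mem_mul.mp hx
      have hom1 : ∀ x ∈ (S : Subgroup G), x ^ r = 1 → x ∈ P1 := by
        intro x hx hxr
        obtain ⟨s1, hs1, s2, hs2, rfl⟩ := hdecomp x hx
        have hc : Commute s1 s2 := hcomm12 s1 hs1 s2 hs2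
        rw [hc.mul_pow, hP1e s1 hs1, one_mul] at hxr
        have hs2' : s2 ∈ P1 ⊓ centralizer (P1 : Set G) := by
          rw [← hcl]; exact Subgroup.subset_closure ⟨hs2, hxr⟩
        exact P1.mul_mem hs1 hs2'.1
      have hZP : P1 ⊓ centralizer (P1 : Set G) ≤ omZ r (S : Subgroup G) := by
        intro x hx
        refine ⟨hP1S hx.1, fun y hy => ?_, hP1e x hx.1⟩
        obtain ⟨s1, hs1, s2, hs2, rfl⟩ := hdecomp y hy
        have e1 : s1 * x = x * s1 := (mem_centralizer_iff.mp hx.2) s1 hs1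
        have e2 : x * s2 = s2 * x := hcomm12 x hx.1 s2 hs2
        calc s1 * s2 * x = s1 * (s2 * x) := mul_assoc _ _ _
          _ = s1 * (x * s2) := by rw [e2]
          _ = (s1 * x) * s2 := (mul_assoc _ _ _).symm
          _ = (x * s1) * s2 := by rw [e1]
          _ = x * (s1 * s2) := mul_assoc _ _ _
      have hBP1 : B ≤ P1 := fun b hb => hom1 b (hBS hb) (c.exc'.elem.2 b hb)
      have hNSP : ∀ g ∈ normalizer ((S : Subgroup G) : Set G), g ∈ normalizer (P1 : Set G) :=
        fun g hg => mem_normalizer_of_omega hg hP1S hP1e hom1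
      have hp2 : p ≠ 2 :=
        prime_ne_two hG A (by rw [c.exc.card]; exact dvd_pow_self p two_ne_zero)
      apply c.false_of_mem_normalizer_B hG
      apply Cfsg.Agent.Helper80.EigenNorm.eigen_normalizes hpP hrP c.hrp.symm hp2 P1 B A h hP1c
        hP1e ?_ hBP1 c.exc'.card (hZP.trans (c.omZ_le_B S hTsS)) (fun a ha => hNSP a (hAS ha))
        c.hAB ?_ ?_ c.exc.elem.2 ?_ (hNSP h hhS) c.hhA ?_
      · intro hall
        apply hna
        exact ⟨⟨fun a b => Subtype.ext (hall a.1 a.2 b.1 b.2)⟩⟩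
      · exact hAcZ.trans (Subgroup.centralizer_le (SetLike.coe_subset_coe.mpr hZP))
      · intro a ha b hb
        exact commute_of_isElementaryAbelian c.exc.elem ha hb
      · intro hAB'
        exact c.hnc (hAB'.trans (Subgroup.centralizer_le (SetLike.coe_subset_coe.mpr c.exc'.le0)))
      · exact Odd.of_dvd_nat hG.1 (orderOf_dvd_natCard h)
  · -- `S` of rank at least 3: the Uniqueness Theorem and `F.cent` for `L`
    set X := A ⊓ centralizer (Y1 : Set G) with hX
    have hXc : Nat.card X = p :=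
      card_inf_centralizer_line hpP c.exc.elem.2 c.exc.card c.exc'.card0 hAY c.hnc
    have hXA : X ≤ A := inf_le_left
    have hXY : X ≤ centralizer (Y1 : Set G) := inf_le_right
    have hcopXr : (Nat.card X).Coprime r := by
      rw [hXc]; exact (Nat.coprime_primes hpP hrP).mpr c.hrp.symm
    have hXB : X ≤ centralizer (B : Set G) := by
      apply Cfsg.Agent.Helper24.le_centralizer_of_coprime B X (hXA.trans c.hAB)
      · rw [c.exc'.card]; exact Nat.Coprime.pow_right 2 hcopXr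
      · have h1 : ⁅B, X⁆ ≤ Y1 := by
          rw [← c.hcomm]; exact Subgroup.commutator_mono le_rfl hXA
        have h2 : ⁅Y1, X⁆ = ⊥ := by
          rw [Subgroup.commutator_comm, Subgroup.commutator_eq_bot_iff_le_centralizer]
          exact hXY
        rw [eq_bot_iff, ← h2]
        exact Subgroup.commutator_mono h1 le_rfl
    have hr2 : r ≠ 2 := prime_ne_two hG Y1 (by rw [c.exc'.card0])
    have hXS : X ≤ centralizer ((S : Subgroup G) : Set G) := by
      apply Cfsg.Agent.S1443.result r hr2 (S : Subgroup G) B X S.isPGroup' hBS c.exc'.elem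
        (hXA.trans hAS) hcopXr
      intro x hx hxo
      have hxT : x ∈ T := c.mem_T S hTsS hx.1 (c.exc'.cent_le hx.2)
      have hxB : x ∈ B := c.hom x hxT (by rw [← hxo]; exact pow_orderOf_eq_one x)
      intro g hg
      rw [mem_centralizer_iff]
      intro y hy
      rw [Set.mem_singleton_iff] at hy
      rw [hy]
      exact (mem_centralizer_iff.mp (hXB hg)) x hxB
    obtain ⟨A', hA'S, hA'e, hA'c⟩ := Cfsg.Agent.Helper34.BG.exists_elemAb_of_not_pRankLE hrk
    have h2 : ¬ Cfsg.RankLE 2 ↥(S : Subgroup G) := not_rankLE_of_elemAb hrP hA'S hA'e hA'c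
    have h1 : ¬ Cfsg.RankLE 1 ↥(S : Subgroup G) :=
      not_rankLE_of_elemAb hrP hA'S hA'e
        (lt_trans (Nat.pow_lt_pow_right hrP.one_lt (by norm_num)) hA'c)
    have hStop : (S : Subgroup G) ≠ ⊤ := ne_top_of_le_coatom hL hSL
    have hSU : Cfsg.InUniqueMaximal (S : Subgroup G) :=
      Cfsg.Agent.S1403.result hG _ hStop h1 (Or.inl h2)
    have hX1 : X ≠ ⊥ := by
      intro h0
      rw [h0, Subgroup.card_bot] at hXc
      exact hpP.one_lt.ne hXc
    have hXtop : X ≠ ⊤ := ne_top_of_le_coatom c.exc.coatom (hXA.trans c.exc.le)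
    have hSNX : (S : Subgroup G) ≤ normalizer (X : Set G) :=
      (Subgroup.le_centralizer_iff.mp hXS).trans (Subgroup.centralizer_le_normalizer _)
    have hNX : normalizer (X : Set G) ≤ L :=
      Cfsg.Agent.Helper34.BG.uniq_le_of_le hSU hL hSL hSNX (normalizer_ne_top hG hX1 hXtop)
    have hExc : Exc L p A X := ⟨hL, hpP, hpσ, hAL, c.exc.elem, c.exc.card, hXA, hXc, hNX⟩
    have hcent := F.cent hExc
    have hZK : omZ r (S : Subgroup G) ≤ Cfsg.sigmaCore L :=
      le_sigmaCore_of_isPGroup hrP (hallOf hG hL) hrσ ((omZ_le r _).trans hSL)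
        (S.isPGroup'.to_le (omZ_le r _))
    have hZC : omZ r (S : Subgroup G) ≤ centralizer (A : Set G) :=
      Subgroup.le_centralizer_iff.mp hAcZ
    apply hZ1
    rw [eq_bot_iff, ← hcent]
    exact le_inf hZK hZC

/-- the configuration of steps 1-3 is contradictory -/
theorem false (c : Cfg M p A A0 r Y1 T B Ts h) (hG : Cfsg.IsMinSimpleOddOrder G)
    (F : Facts G) : False := by
  haveI := c.exc'.fact
  obtain ⟨S, hTsS⟩ := c.hTs.1.exists_le_sylow
  obtain ⟨L, hL, hSL, hAL, hrσ⟩ := c.exists_L hG S hTsS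
  by_cases hpσ : p ∈ Cfsg.sigma L
  · exact c.false_of_mem_sigma hG S hTsS hL hSL hAL hrσ hpσ
  · exact c.false_of_not_mem_sigma hG F S hTsS hL hSL hAL hrσ hpσ

end Cfg

variable {M A A0 : Subgroup G} {p : ℕ}

/-- **B-G 11.7, main step**: `A` centralizes `O_r(M)` for every prime `r ≠ p` outside `σ(M)`. -/
theorem cent_pCore (hG : Cfsg.IsMinSimpleOddOrder G) (F : Facts G) (hE : Exc M p A A0)
    (r : ℕ) [hr : Fact r.Prime] (hrp : r ≠ p) (hrσ : r ∉ Cfsg.sigma M) :
    A ≤ centralizer ((Cfsg.pCoreOf r M : Subgroup G) : Set G) := by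
  by_contra hnc0
  obtain ⟨Y1, hY1M, hY1c, hY1n, hY1K, hnc⟩ := exists_normal_line hG F hE hrp hrσ hnc0
  have hpP := hE.prime
  have hrP := hr.out
  have hAY : A ≤ normalizer (Y1 : Set G) := hE.le.trans hY1n
  have hdvd : p ∣ r - 1 := dvd_pred_of_not_centralizes hpP hE.elem.2 hY1c hAY hnc
  have hpr : p < r := by
    have h2 := hrP.two_le
    have h1 : p ≤ r - 1 := Nat.le_of_dvd (by omega) hdvd
    omega
  obtain ⟨T, hT, hAT⟩ := exists_inv_sylow hG hE hpr
  obtain ⟨B, hBT, hBe, hBc, hYB, hE', hTcomm, hom, hAB⟩ :=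
    setupB hG F hE hrσ hY1M hY1c hY1n hT hAT
  obtain ⟨hcomm, hW1⟩ := comm_eq hG F hE hrp hE' hY1K hAB hY1n hnc
  have hrC : r ∣ Nat.card (centralizer (A : Set G)) := dvd_card_of_inf_ne_bot hE'.isPGroup hW1
  obtain ⟨Ts, h, hTs, hTTs, hhA, hhTs, hhM⟩ := exists_h hG F hE hrp hT.isPGroup hAT hrC
  have c : Cfg M p A A0 r Y1 T B Ts h :=
    ⟨hE, hE', hrp, hY1n, hnc, hT, hBT, hom, hAB, hcomm, hTs, hTTs, hhA, hhTs, hhM⟩
  exact c.false hG F

/-- **B-G Theorem 11.7**: `M ≤ N_G(M_σ A)` for an exceptional quadruple `(M, p, A, A0)`. -/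
theorem thm117 (hG : Cfsg.IsMinSimpleOddOrder G) (F : Facts G) (hE : Exc M p A A0) :
    M ≤ normalizer ((Cfsg.sigmaCore M ⊔ A : Subgroup G) : Set G) :=
  Cfsg.Agent.Helper22.BG11.c_of_cent hG hE (F.nil hE) (F.syl hE) (F.fpf2 hE)
    (fun r hr hrp hrσ => by
      haveI : Fact r.Prime := ⟨hr⟩
      exact cent_pCore hG F hE r hrp hrσ)

end Cfsg.Agent.Helper24.BG11
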